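import Cfsg.Agent.Ree.Real.Split
import Cfsg.Agent.Ree.Torus.Func.Main

/-!
The functions induced from `1 × (λ - 1)` of `⟨t⟩ × T`: their multiplicities, norm and sums.
-/

set_option autoImplicit false
set_option linter.unusedSectionVars false
set_option linter.style.haveILetI false

namespace Cfsg.Lib.Ree.Real

open Cfsg Cfsg.Lib.Chars Cfsg.Lib.ReeAb
open scoped ComplexConjugate

universe u

attribute [local instance] _root_.Classical.propDecidable

namespace Split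

variable {G : Type u} [Group G] [Fintype G] {t : G} {E : Subgroup G} {q : ℕ} (B : Base t E q) (P : Split t E q)
include B

/-- The function on `⟨t⟩ × T`. -/
noncomputable def fn (l : P.T →* ℂˣ) (z : ℤˣ × P.T) : ℂ := (l z.2 : ℂ) - 1

theorem fn_zero (l : P.T →* ℂˣ) {z : ℤˣ × P.T} (hz : z.2 = 1) : P.fn l z = 0 := by simp [fn, hz]

/-- The multiplicity, as a complex number. -/
noncomputable def mul' (l : P.T →* ℂˣ) (χ : IrrCharacter G) : ℂ :=
  classInner (fun z : ℤˣ × P.T => (χ : G → ℂ) (P.emb B z)) (P.fn l)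

theorem exists_mul (l : P.T →* ℂˣ) (χ : IrrCharacter G) : ∃ z : ℤ, P.mul' B l χ = z := by
  have hc := IsCharacter.comp_hom (isCharacter_of_irr χ.2) (P.emb B)
  obtain ⟨n, hn⟩ := IsCharacter.exists_mult hc (isIrrCharacter_linear (l.comp (MonoidHom.snd ℤˣ P.T)))
  obtain ⟨n', hn'⟩ := IsCharacter.exists_mult hc (isIrrCharacter_linear (1 : ℤˣ × P.T →* ℂˣ))
  refine ⟨(n : ℤ) - n', ?_⟩
  have e : P.fn l = (fun z => ((l.comp (MonoidHom.snd ℤˣ P.T)) z : ℂ)) -
      fun z => (((1 : ℤˣ × P.T →* ℂˣ)) z : ℂ) := by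
    funext z
    simp [fn]
  rw [mul', e, classInner_sub_right, hn, hn']
  push_cast
  rfl

/-- The multiplicity. -/
noncomputable def mlt (l : P.T →* ℂˣ) (χ : IrrCharacter G) : ℤ := (P.exists_mul B l χ).choose

theorem mlt_eq (l : P.T →* ℂˣ) (χ : IrrCharacter G) :
    (P.mlt B l χ : ℂ) = (Nat.card (ℤˣ × P.T) : ℂ)⁻¹ *
      ∑ z : ℤˣ × P.T, (χ : G → ℂ) (P.emb B z) * conj (P.fn l z) := by
  rw [mlt, ← (P.exists_mul B l χ).choose_spec, mul', classInner_def]

theorem sum_mlt_mul (l : P.T →* ℂˣ) (c : IrrCharacter G → ℂ) :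
    ∑ χ : IrrCharacter G, (P.mlt B l χ : ℂ) * c χ = (Nat.card (ℤˣ × P.T) : ℂ)⁻¹ *
      ∑ z : ℤˣ × P.T, conj (P.fn l z) * ∑ χ : IrrCharacter G, c χ * (χ : G → ℂ) (P.emb B z) := by
  simp only [mlt_eq, Finset.mul_sum, Finset.sum_mul]
  rw [Finset.sum_comm]
  exact Finset.sum_congr rfl fun z _ => Finset.sum_congr rfl fun χ _ => by ring

theorem card_T_ne : (Nat.card P.T : ℂ) ≠ 0 := by exact_mod_cast Nat.card_pos.ne'

theorem card_pairs : (Nat.card (ℤˣ × P.T) : ℂ) = 2 * (Nat.card P.T : ℂ) := by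
  rw [Nat.card_prod, Nat.card_eq_fintype_card (α := ℤˣ)]
  simp

theorem sum_pairs (f : ℤˣ × P.T → ℂ) : ∑ z, f z = ∑ a : P.T, f (1, a) + ∑ a : P.T, f (-1, a) := by
  rw [Fintype.sum_prod_type, show (Finset.univ : Finset ℤˣ) = {1, -1} by decide, Finset.sum_pair (by decide)]

/-- The value at an element not conjugate into `⟨t⟩ × T` off `⟨t⟩`. -/
theorem sum_mlt_apart (l : P.T →* ℂˣ) {g : G}
    (hg : ∀ z : ℤˣ × P.T, z.2 ≠ 1 → ¬ IsConj (P.emb B z) g⁻¹) :
    ∑ χ : IrrCharacter G, (P.mlt B l χ : ℂ) * (χ : G → ℂ) g = 0 := by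
  rw [sum_mlt_mul]
  refine mul_eq_zero_of_right _ (Finset.sum_eq_zero fun z _ => ?_)
  by_cases hz : z.2 = 1
  · rw [P.fn_zero B l hz, map_zero, zero_mul]
  rw [Finset.sum_congr rfl fun (χ : IrrCharacter G) _ => show (χ : G → ℂ) g * (χ : G → ℂ) (P.emb B z) =
    (χ : G → ℂ) (P.emb B z) * conj ((χ : G → ℂ) g⁻¹) by
      rw [← IsCharacter.conj_inv (isCharacter_of_irr χ.2), inv_inv, mul_comm], sum_conj_eq_card]
  haveI : IsEmpty {c : G // c * P.emb B z * c⁻¹ = g⁻¹} := ⟨fun c => hg z hz (isConj_iff.2 ⟨c.1, c.2⟩)⟩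
  simp

theorem sum_mlt_involution (l : P.T →* ℂˣ) {g : G} (hg : g * g = 1) :
    ∑ χ : IrrCharacter G, (P.mlt B l χ : ℂ) * (χ : G → ℂ) g = 0 := by
  refine P.sum_mlt_apart B l fun z hz h => ?_
  obtain ⟨c, hc⟩ := isConj_iff.1 h
  have h1 : c * ((z.2 : G) * z.2) * c⁻¹ = 1 := by
    rw [← P.emb_sq B, show c * (P.emb B z * P.emb B z) * c⁻¹ = c * P.emb B z * c⁻¹ * (c * P.emb B z * c⁻¹) by
      group, hc, ← mul_inv_rev, hg, inv_one]
  exact P.sq_ne B hz (conj_eq_one_iff.1 h1)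

/-- The multiplicity of the principal character. -/
theorem mlt_one {l : P.T →* ℂˣ} (hl : l ≠ 1) (χ : IrrCharacter G) (hχ : (χ : G → ℂ) = fun _ => 1) :
    P.mlt B l χ = -1 := by
  apply Int.cast_injective (α := ℂ)
  rw [P.mlt_eq B]
  simp only [hχ, one_mul, fn]
  rw [P.sum_pairs B, sum_sub_one hl, P.card_pairs B]
  have := P.card_T_ne B
  push_cast
  field_simp
  ring

theorem inv_ne {l : P.T →* ℂˣ} (hl : l ≠ 1) : l⁻¹ ≠ l := fun h => hl (MonoidHom.ext fun y => by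
  refine eq_one_of_odd_sq ((P.T_odd B y.2).of_dvd_nat ?_) ?_
  · rw [Subgroup.orderOf_coe]
    exact orderOf_map_dvd l y
  · have h' := DFunLike.congr_fun h y
    rw [MonoidHom.inv_apply] at h'
    nth_rw 1 [← h']
    exact inv_mul_cancel _)

/-- The norm. -/
theorem norm {l : P.T →* ℂˣ} (hl : l ≠ 1) : ∑ χ : IrrCharacter G, P.mlt B l χ ^ 2 = 3 := by
  apply Int.cast_injective (α := ℂ)
  simp only [pow_two]
  push_cast
  set N : ℂ := (Nat.card (ℤˣ × P.T) : ℂ) with hN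
  have hN0 : N ≠ 0 := by rw [hN]; exact_mod_cast Nat.card_pos.ne'
  have hconj : ∀ χ : IrrCharacter G, (P.mlt B l χ : ℂ) = N⁻¹ *
      ∑ z : ℤˣ × P.T, conj ((χ : G → ℂ) (P.emb B z)) * P.fn l z := fun χ => by
    rw [← map_intCast (starRingEnd ℂ), P.mlt_eq B, map_mul, map_inv₀, map_natCast, map_sum]
    simp only [map_mul, Complex.conj_conj]
    rfl
  rw [P.sum_mlt_mul B]
  have hinner : ∀ a : ℤˣ × P.T, a.2 ≠ 1 →
      ∑ χ : IrrCharacter G, (P.mlt B l χ : ℂ) * (χ : G → ℂ) (P.emb B a) = P.fn l a + P.fn l a⁻¹ := by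
    intro a ha
    simp only [hconj, Finset.mul_sum, Finset.sum_mul]
    rw [Finset.sum_comm, Finset.sum_congr rfl fun b _ => show _ =
      ∑ p : Bool, if P.flip p a = b then P.fn l b else 0 by
        rw [Finset.sum_congr rfl fun (χ : IrrCharacter G) _ => show N⁻¹ *
          (conj ((χ : G → ℂ) (P.emb B b)) * P.fn l b) * (χ : G → ℂ) (P.emb B a) =
          N⁻¹ * P.fn l b * ((χ : G → ℂ) (P.emb B a) * conj ((χ : G → ℂ) (P.emb B b))) by ring,
          ← Finset.mul_sum, sum_conj_eq_card, P.card_conj B ha, ← Finset.sum_filter, Finset.sum_const,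
          nsmul_eq_mul, Nat.card_eq_fintype_card (α := {p // P.flip p a = b}), Fintype.card_subtype, Nat.cast_mul,
          ← hN]
        field_simp, Finset.sum_comm, Fintype.sum_bool]
    simp [flip, add_comm]
  rw [Finset.sum_congr rfl fun a _ => show _ = conj (P.fn l a) * (P.fn l a + P.fn l a⁻¹) by
    by_cases ha : a.2 = 1
    · rw [P.fn_zero B l ha, map_zero, zero_mul, zero_mul]
    · rw [hinner a ha]]
  have hK : ∑ y : P.T, conj ((l y : ℂ) - 1) * (((l y : ℂ) - 1) + ((l y⁻¹ : ℂ) - 1)) = 3 * (Nat.card P.T : ℂ) := by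
    rw [Finset.sum_congr rfl fun y _ => show _ =
      conj (l y : ℂ) * (l y : ℂ) + conj (l y : ℂ) * (l⁻¹ y : ℂ) - (l y : ℂ) - (l⁻¹ y : ℂ)
        - 2 * conj ((l y : ℂ) - 1) by rw [lin_inv_val, map_sub, map_one]; ring,
      Finset.sum_sub_distrib, Finset.sum_sub_distrib, Finset.sum_sub_distrib, Finset.sum_add_distrib, sum_pair_lin,
      sum_pair_lin, if_pos rfl, if_neg (P.inv_ne B hl), sum_lin, if_neg hl, sum_lin, if_neg (show l⁻¹ ≠ 1 from fun h => hl (MonoidHom.ext fun y => inv_eq_one.1 (DFunLike.congr_fun h y))),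
      ← Finset.mul_sum, sum_sub_one hl]
    ring
  rw [P.sum_pairs B]
  simp only [fn, Prod.snd_inv, hK]
  rw [P.card_pairs B]
  have := P.card_T_ne B
  field_simp
  norm_num

/-- The sums against functions known on `t T`. -/
theorem sum_mlt_section (l : P.T →* ℂˣ) (c : IrrCharacter G → ℂ) (f : P.T → ℂ)
    (hsec : ∀ a : P.T, ∑ χ : IrrCharacter G, c χ * (χ : G → ℂ) (t * (a : G)) = 2 * f a)
    (hodd : ∀ a : P.T, ∑ χ : IrrCharacter G, c χ * (χ : G → ℂ) (a : G) = 0) :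
    ∑ χ : IrrCharacter G, (P.mlt B l χ : ℂ) * c χ =
      (Nat.card P.T : ℂ)⁻¹ * ∑ a : P.T, conj ((l a : ℂ) - 1) * f a := by
  rw [P.sum_mlt_mul B, P.sum_pairs B, P.card_pairs B]
  have h1 : ∀ a : P.T, conj (P.fn l (1, a)) * ∑ χ : IrrCharacter G, c χ * (χ : G → ℂ) (P.emb B (1, a)) = 0 :=
    fun a => by rw [P.emb_T B, hodd, mul_zero]
  have h2 : ∀ a : P.T, conj (P.fn l (-1, a)) * ∑ χ : IrrCharacter G, c χ * (χ : G → ℂ) (P.emb B (-1, a)) =
      2 * (conj ((l a : ℂ) - 1) * f a) := fun a => by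
    rw [show P.emb B (-1, a) = t * (a : G) from rfl, hsec, fn]
    ring
  rw [Finset.sum_congr rfl fun a _ => h1 a, Finset.sum_congr rfl fun a _ => h2 a, Finset.sum_const_zero, zero_add,
    ← Finset.mul_sum]
  have := P.card_T_ne B
  field_simp

/-- The weighted sum of the squares of the values at the involution. -/
theorem sum_mlt_count (hall : ∀ s : G, orderOf s = 2 → IsConj t s) {l : P.T →* ℂˣ} (hl : l ≠ 1) :
    ∑ χ : IrrCharacter G, (χ : G → ℂ) t ^ 2 * (P.mlt B l χ : ℂ) / (χ : G → ℂ) 1 =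
      (Nat.card (Subgroup.centralizer ({t} : Set G)) : ℂ) ^ 2 / (Nat.card G : ℂ) * (-2 * (Nat.card P.T : ℂ)) := by
  rw [Finset.sum_congr rfl fun χ _ => show _ = (P.mlt B l χ : ℂ) * ((χ : G → ℂ) t ^ 2 / (χ : G → ℂ) 1) by ring,
    P.sum_mlt_mul B]
  set γ : ℂ := (Nat.card (Subgroup.centralizer ({t} : Set G)) : ℂ) ^ 2 / (Nat.card G : ℂ) with hγ
  have hC0 : (Nat.card (Subgroup.centralizer ({t} : Set G)) : ℂ) ≠ 0 := by exact_mod_cast Nat.card_pos.ne'
  have hi0 : ((Subgroup.centralizer ({t} : Set G)).index : ℂ) ≠ 0 := by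
    exact_mod_cast Subgroup.index_ne_zero_of_finite
  have hidx : (Nat.card G : ℂ) = (Subgroup.centralizer ({t} : Set G)).index *
      Nat.card (Subgroup.centralizer ({t} : Set G)) := by
    rw [← Nat.cast_mul, Subgroup.index_mul_card]
  have hcol : ∀ z : ℤˣ × P.T, z.2 ≠ 1 →
      ∑ χ : IrrCharacter G, (χ : G → ℂ) t ^ 2 / (χ : G → ℂ) 1 * (χ : G → ℂ) (P.emb B z) =
        γ * (Nat.card (ℤˣ × P.T) : ℂ) := by
    intro z hz
    rw [hγ, ← P.card_inverting B (z := z⁻¹) (by simpa using hz),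
      ← Cfsg.Lib.Dihedral.card_pairs_eq B.ord hall, class_mult_formula, card_isConj,
      Finset.sum_congr rfl fun (χ : IrrCharacter G) _ => show (χ : G → ℂ) t ^ 2 / (χ : G → ℂ) 1 * (χ : G → ℂ) (P.emb B z) =
        (χ : G → ℂ) t * (χ : G → ℂ) t * conj ((χ : G → ℂ) (P.emb B z⁻¹)) / (χ : G → ℂ) 1 by
          rw [map_inv, ← IsCharacter.conj_inv (isCharacter_of_irr χ.2), inv_inv]; ring, hidx]
    field_simp
  rw [Finset.sum_congr rfl fun z _ => show _ = conj (P.fn l z) * (γ * (Nat.card (ℤˣ × P.T) : ℂ)) by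
    by_cases hz : z.2 = 1
    · rw [P.fn_zero B l hz, map_zero, zero_mul, zero_mul]
    · rw [hcol z hz], ← Finset.sum_mul, P.sum_pairs B]
  simp only [fn, sum_sub_one hl, P.card_pairs B]
  have := P.card_T_ne B
  field_simp
  ring

end Split

end Cfsg.Lib.Ree.Real
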