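import Cfsg.Agent.Ree.Real.Setup
import Cfsg.Agent.Ree.Real.SplitFun
import Cfsg.Agent.ReeAbelian.Base

/-!
The characters met by the functions of the other torus vanish at the elements of prime order dividing `q² - q + 1`.
-/

set_option autoImplicit false
set_option linter.unusedSectionVars false
set_option linter.style.haveILetI false

namespace Cfsg.Lib.Ree.Real

open Cfsg Cfsg.Lib.Chars Cfsg.Lib.Blocks
open scoped ComplexConjugate
attribute [local instance] _root_.Classical.propDecidable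

universe u v

variable {G : Type u} [Group G] [Fintype G] {t : G} {E : Subgroup G} [Fintype E] {F : Type v} [Field F]
  [Fintype F]

namespace RCtx

variable (C : RCtx t E F)
include C

/-- The members. -/
theorem mem_cases {χ : IrrCharacter G} (hχ : χ ∈ C.D.R.L) :
    χ = C.S.o ∨ χ = C.S.e1 ∨ χ = C.S.c5 ∨ χ = C.S.c6 ∨ χ = C.S.c7 ∨ χ = C.S.c8 ∨ χ = C.S.c3 ∨ χ = C.S.c4 := by
  classical
  by_contra h
  simp only [not_or] at h
  obtain ⟨n0, n1, n5, n6, n7, n8, n3, n4⟩ := h
  have h1 := List.single_le_sum (l := C.D.R.L.map fun x => if x = χ then 1 else 0) (fun _ _ => Nat.zero_le _) _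
    (List.mem_map_of_mem hχ)
  rw [C.S.sum, if_pos rfl, if_neg (Ne.symm n0), if_neg (Ne.symm n1), if_neg (Ne.symm n5), if_neg (Ne.symm n6),
    if_neg (Ne.symm n7), if_neg (Ne.symm n8), if_neg (Ne.symm n3), if_neg (Ne.symm n4)] at h1
  omega

/-- The members with a coordinate at `x`. -/
theorem x_cases {χ : IrrCharacter G} (hχ : coord t E χ C.D.Tb.x ≠ 0) :
    χ = C.S.o ∨ (coord t E χ C.D.Tb.x = (C.D.R.sg χ : ℂ) ∧ χ ∈ C.D.R.L ∧
      (χ = C.S.e1 ∨ χ = C.S.c3 ∨ χ = C.S.c4)) := by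
  have hL : χ ∈ C.D.R.L := by_contra fun h => hχ (C.D.R.rest χ h).1
  have hc := (C.D.R.coords χ hL).1
  obtain ⟨r0, r1, r5, r6, r7, r8, r3, r4⟩ := C.S.rows
  rcases C.mem_cases hL with h | h | h | h | h | h | h | h
  · exact Or.inl h
  all_goals subst h
  · exact Or.inr ⟨by rw [hc, r1]; simp, hL, Or.inl rfl⟩
  · exact absurd (by rw [hc, r5]; simp) hχ
  · exact absurd (by rw [hc, r6]; simp) hχ
  · exact absurd (by rw [hc, r7]; simp) hχ
  · exact absurd (by rw [hc, r8]; simp) hχ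
  · exact Or.inr ⟨by rw [hc, r3]; simp, hL, Or.inr (Or.inl rfl)⟩
  · exact Or.inr ⟨by rw [hc, r4]; simp, hL, Or.inr (Or.inr rfl)⟩

/-- The first member is principal. -/
theorem princ_o : ((C.S.o : IrrCharacter G) : G → ℂ) = (fun _ => 1) ∧ C.D.R.sg C.S.o = -1 := by
  obtain ⟨o, L', hL, ho, hs⟩ := C.D.R.head
  have hd : C.D.d o = -1 := by
    have h1 : (deg (o : G → ℂ) : ℂ) = 1 := by rw [← irr_apply_one_eq_deg, ho]
    rw [Ctx.d, hs, show (deg (o : G → ℂ) : ℤ) = 1 by exact_mod_cast h1]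
    norm_num
  have hmem : o ∈ C.D.R.L := by simp [hL]
  have hrow : (C.D.R.row o).1 = 1 ∧ (C.D.R.row o).2.1 = 0 := by
    have h := C.D.R.mem_systems
    rw [hL, List.map_cons] at h
    simp only [systems, List.mem_cons, List.cons.injEq, List.not_mem_nil, or_false] at h
    rcases h with ⟨e, -⟩ | ⟨e, -⟩ | ⟨e, -⟩ | ⟨e, -⟩ <;> simp [e]
  obtain ⟨r0, r1, r5, r6, r7, r8, r3, r4⟩ := C.S.rows
  have hq : (27 : ℤ) ≤ Fintype.card F := by exact_mod_cast C.q_ge
  rcases C.mem_cases hmem with h | h | h | h | h | h | h | h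
  · rw [← h]; exact ⟨ho, hs⟩
  all_goals exfalso
  · rw [h, C.d_e1] at hd; nlinarith
  · rw [h, r5] at hrow; simp at hrow
  · rw [h, r6] at hrow; simp at hrow
  · rw [h, r7] at hrow; simp at hrow
  · rw [h, r8] at hrow; simp at hrow
  · rw [h, r3] at hrow; simp at hrow
  · rw [h, r4] at hrow; simp at hrow

theorem base : ReeAb.Base t E (Fintype.card F) := ReeAb.Base.of_setting C.D.set

/-- The order of the centralizer of `t` over that of its class. -/
theorem gamma : (Nat.card (Subgroup.centralizer ({t} : Set G)) : ℂ) ^ 2 / (Nat.card G : ℂ) =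
    ((Fintype.card F : ℂ) ^ 2 - 1) /
      ((Fintype.card F : ℂ) * ((Fintype.card F : ℂ) ^ 2 - Fintype.card F + 1)) := by
  have hi0 : ((Subgroup.centralizer ({t} : Set G)).index : ℂ) ≠ 0 := by
    exact_mod_cast Subgroup.index_ne_zero_of_finite
  have hidx : (Nat.card G : ℂ) = (Subgroup.centralizer ({t} : Set G)).index *
      Nat.card (Subgroup.centralizer ({t} : Set G)) := by
    rw [← Nat.cast_mul, Subgroup.index_mul_card]
  have hC : (Nat.card (Subgroup.centralizer ({t} : Set G)) : ℂ) =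
      (Fintype.card F : ℂ) * ((Fintype.card F : ℂ) ^ 2 - 1) := by
    have h := C.D.SF.order
    rw [← Subgroup.index_mul_card (Subgroup.centralizer ({t} : Set G))] at h
    rw [Nat.eq_of_mul_eq_mul_left (Nat.pos_of_ne_zero Subgroup.index_ne_zero_of_finite) h, Nat.cast_mul,
      Nat.cast_sub (Nat.one_le_pow _ _ Fintype.card_pos)]
    push_cast
    ring
  have hh : ((Subgroup.centralizer ({t} : Set G)).index : ℂ) =
      (Fintype.card F : ℂ) ^ 2 * ((Fintype.card F : ℂ) ^ 2 - Fintype.card F + 1) := by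
    have h := C.h_eq
    rw [Ctx.h] at h
    have := congrArg (fun z : ℤ => (z : ℂ)) h
    push_cast at this
    exact this
  have hq0 : (Fintype.card F : ℂ) ≠ 0 := by exact_mod_cast Fintype.card_ne_zero
  rw [hidx, hC, hh]
  rw [hh] at hi0
  have hP : ((Fintype.card F : ℂ) ^ 2 - Fintype.card F + 1) ≠ 0 := right_ne_zero_of_mul hi0
  have h2 : ((Fintype.card F : ℂ) ^ 2 - 1) ≠ 0 := by
    have h1 : (Nat.card (Subgroup.centralizer ({t} : Set G)) : ℂ) ≠ 0 := by exact_mod_cast Nat.card_pos.ne'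
    rw [hC] at h1
    exact right_ne_zero_of_mul h1
  field_simp

variable (P : Split t E (Fintype.card F))

theorem card_T : 2 * (Nat.card P.T : ℂ) = (Fintype.card F : ℂ) - 1 := by
  have h : 2 * Nat.card P.T + 1 = Fintype.card F := by
    rw [P.card]; have := C.q_mod; omega
  have := congrArg (Nat.cast : ℕ → ℂ) h
  push_cast at this
  linear_combination this

/-- A nontrivial element of `T`, inside `E`. -/
theorem x_T (a : P.T) (ha : a ≠ 1) : C.D.Tb.x ⟨a, P.le a.2⟩ = -2 := by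
  obtain ⟨r, hr, hrd⟩ := Nat.exists_prime_and_dvd (mt orderOf_eq_one_iff.1 ha)
  rw [← Subgroup.orderOf_coe] at hrd
  rw [C.x_eq, C.st_split ⟨(a : G), P.le a.2⟩ r (by rw [Subgroup.orderOf_mk]; exact P.T_odd C.base a.2) hr
    (P.card ▸ hrd.trans (P.T.orderOf_dvd_natCard a.2)) (by rw [Subgroup.orderOf_mk]; exact hrd)]
  norm_num

/-- The sums against the coordinates of a special function. -/
theorem split_target (l : P.T →* ℂˣ) (ψ : E → ℂ) (hψ : IsSpecial ψ) :
    ∑ χ : IrrCharacter G, (P.mlt C.base l χ : ℂ) * coord t E χ ψ =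
      (Nat.card P.T : ℂ)⁻¹ * ∑ a : P.T, conj ((l a : ℂ) - 1) * ψ ⟨a, P.le a.2⟩ := by
  refine P.sum_mlt_section C.base l _ _ (fun a => ?_) (fun a => C.D.SF.odd_sum ψ hψ _ (P.T_odd C.base a.2))
  exact C.D.SF.section_sum ψ hψ ⟨a, P.le a.2⟩ (by rw [Subgroup.orderOf_mk]; exact P.T_odd C.base a.2)

/-- The constituents: the principal character, the fourth member and one of degree `q³ + 1`. -/
theorem split_parts {l : P.T →* ℂˣ} (hl : l ≠ 1) : ∃ Y : IrrCharacter G,
    ((Fintype.card F : ℤ) ^ 2 - Fintype.card F + 1) ∣ (deg (Y : G → ℂ) : ℤ) ∧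
    ∀ χ, P.mlt C.base l χ ≠ 0 → χ = C.S.o ∨ χ = C.S.c4 ∨ χ = Y := by
  classical
  set m := P.mlt C.base l with hm
  obtain ⟨ho, hso⟩ := C.princ_o
  have hmo : m C.S.o = -1 := P.mlt_one C.base hl _ ho
  have hn := P.norm C.base hl
  rw [← hm, ← Finset.add_sum_erase _ _ (Finset.mem_univ C.S.o), hmo] at hn
  obtain ⟨X, hX, Y, hY, hXY, hX1, hY1, hrest⟩ :=
    Star.pair_vec (a := m) (s := Finset.univ.erase C.S.o) (by norm_num at hn ⊢; linarith)
  have hXo := (Finset.mem_erase.1 hX).1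
  have hYo := (Finset.mem_erase.1 hY).1
  have hsplit : ∀ f : IrrCharacter G → ℂ, (∀ χ, m χ = 0 → f χ = 0) →
      ∑ χ, f χ = f C.S.o + f X + f Y := fun f hf => by
    rw [← Finset.add_sum_erase _ _ (Finset.mem_univ C.S.o), ← Finset.sum_subset (s₁ := {X, Y}) (by
      intro x hx
      simp only [Finset.mem_insert, Finset.mem_singleton] at hx
      rcases hx with rfl | rfl <;> assumption) (fun x hx hx' => hf x (hrest x hx
        (fun e => hx' (by simp [e])) fun e => hx' (by simp [e]))), Finset.sum_pair hXY, add_assoc]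
  have hdeg := P.sum_mlt_involution C.base l (g := 1) (one_mul 1)
  have hat := P.sum_mlt_involution C.base l (g := t) C.base.tt
  have hcount := P.sum_mlt_count C.base C.D.SF.conj_all hl
  rw [← hm] at hdeg hat hcount
  rw [hsplit _ (fun χ h => by simp [h]), hmo, ho] at hdeg hat
  rw [hsplit _ (fun χ h => by simp [h]), hmo, ho, C.gamma,
    show (-2 : ℂ) * (Nat.card P.T : ℂ) = -((Fintype.card F : ℂ) - 1) by rw [← C.card_T P]; ring] at hcount
  have hx := C.split_target P l C.D.Tb.x C.D.Tb.spec_x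
  rw [← hm, hsplit _ (fun χ h => by simp [h]), hmo,
    (C.D.R.coords _ C.S.mem.1).1, C.S.rows.1, hso,
    Finset.sum_congr rfl fun (a : P.T) _ => show conj ((l a : ℂ) - 1) * C.D.Tb.x ⟨a, P.le a.2⟩ =
      conj ((l a : ℂ) - 1) * (-2) by
        by_cases ha : a = 1
        · subst ha; simp
        · rw [C.x_T P a ha],
    ← Finset.sum_mul, sum_sub_one hl] at hx
  have hone : (m X : ℂ) * coord t E X C.D.Tb.x + (m Y : ℂ) * coord t E Y C.D.Tb.x = 1 := by
    have hT0 := P.card_T_ne C.base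
    field_simp at hx
    push_cast at hx
    linear_combination hx
  -- one of the two is a member
  suffices key : ∀ X Y : IrrCharacter G, X ≠ Y → X ≠ C.S.o → m X ^ 2 = 1 → m Y ^ 2 = 1 →
      coord t E X C.D.Tb.x ≠ 0 → coord t E Y C.D.Tb.x = 0 →
      (m X : ℂ) * coord t E X C.D.Tb.x + (m Y : ℂ) * coord t E Y C.D.Tb.x = 1 →
      -1 + (m X : ℂ) * (X : G → ℂ) 1 + (m Y : ℂ) * (Y : G → ℂ) 1 = 0 →
      -1 + (m X : ℂ) * (X : G → ℂ) t + (m Y : ℂ) * (Y : G → ℂ) t = 0 →
      -1 + (X : G → ℂ) t ^ 2 * (m X : ℂ) / (X : G → ℂ) 1 + (Y : G → ℂ) t ^ 2 * (m Y : ℂ) / (Y : G → ℂ) 1 =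
        ((Fintype.card F : ℂ) ^ 2 - 1) /
          ((Fintype.card F : ℂ) * ((Fintype.card F : ℂ) ^ 2 - Fintype.card F + 1)) *
          -((Fintype.card F : ℂ) - 1) →
      X = C.S.c4 ∧ ((Fintype.card F : ℤ) ^ 2 - Fintype.card F + 1) ∣ (deg (Y : G → ℂ) : ℤ) by
    have hother : ∀ χ, m χ ≠ 0 → χ = C.S.o ∨ χ = X ∨ χ = Y := fun χ hχ => by
      by_contra h
      simp only [not_or] at h
      exact hχ (hrest χ (Finset.mem_erase.2 ⟨h.1, Finset.mem_univ _⟩) h.2.1 h.2.2)
    by_cases cX : coord t E X C.D.Tb.x = 0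
    · have cY : coord t E Y C.D.Tb.x ≠ 0 := fun h => by rw [cX, h] at hone; simp at hone
      obtain ⟨rfl, hd⟩ := key Y X hXY.symm hYo hY1 hX1 cY cX (by linear_combination hone)
        (by simp only [Int.cast_neg, Int.cast_one] at hdeg; linear_combination hdeg)
        (by simp only [Int.cast_neg, Int.cast_one] at hat; linear_combination hat)
        (by simp only [Int.cast_neg, Int.cast_one] at hcount; linear_combination hcount)
      exact ⟨X, hd, fun χ hχ => by rcases hother χ hχ with h | h | h <;> simp [h]⟩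
    by_cases cY : coord t E Y C.D.Tb.x = 0
    · obtain ⟨rfl, hd⟩ := key X Y hXY hXo hX1 hY1 cX cY hone
        (by simp only [Int.cast_neg, Int.cast_one] at hdeg; linear_combination hdeg)
        (by simp only [Int.cast_neg, Int.cast_one] at hat; linear_combination hat)
        (by simp only [Int.cast_neg, Int.cast_one] at hcount; linear_combination hcount)
      exact ⟨Y, hd, fun χ hχ => by rcases hother χ hχ with h | h | h <;> simp [h]⟩
    exfalso
    rcases C.x_cases cX with h | ⟨eX, -, -⟩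
    · exact hXo h
    rcases C.x_cases cY with h | ⟨eY, -, -⟩
    · exact hYo h
    rw [eX, eY] at hone
    have h1 : m X * C.D.R.sg X + m Y * C.D.R.sg Y = 1 := by exact_mod_cast hone
    rcases sq_eq_one_iff.1 hX1 with e | e <;> rcases sq_eq_one_iff.1 hY1 with e' | e' <;>
      rcases Int.mul_eq_one_iff_eq_one_or_neg_one.1 (C.D.R.sg_sq X) with ⟨s, -⟩ | ⟨s, -⟩ <;>
      rcases Int.mul_eq_one_iff_eq_one_or_neg_one.1 (C.D.R.sg_sq Y) with ⟨s', -⟩ | ⟨s', -⟩ <;>
      rw [e, e', s, s'] at h1 <;> norm_num at h1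
  intro X Y _ hXo hX1 hY1 cX cY hone hdeg hat hcount
  rcases C.x_cases cX with h | ⟨eX, hXL, hcase⟩
  · exact absurd h hXo
  rw [cY, mul_zero, add_zero, eX] at hone
  have hmX : (m X : ℂ) = (C.D.R.sg X : ℂ) := by
    linear_combination (C.D.R.sg X : ℂ) * hone - (m X : ℂ) * C.D.sg_c X
  have hd : (m X : ℂ) * (X : G → ℂ) 1 = (C.D.d X : ℂ) := by
    rw [hmX, C.D.deg_c, ← mul_assoc, C.D.sg_c, one_mul]
  have hw : (m X : ℂ) * (X : G → ℂ) t = (C.D.w X : ℂ) := by
    rw [hmX, C.D.value_t hXL, ← mul_assoc, C.D.sg_c, one_mul]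
  have hs : (m X : ℂ) ^ 2 = 1 := by exact_mod_cast hX1
  have hsY : (m Y : ℂ) ^ 2 = 1 := by exact_mod_cast hY1
  have hX0 : (X : G → ℂ) 1 ≠ 0 := by rw [irr_apply_one_eq_deg]; exact_mod_cast (deg_irr_pos X).ne'
  have hY0 : (Y : G → ℂ) 1 ≠ 0 := by rw [irr_apply_one_eq_deg]; exact_mod_cast (deg_irr_pos Y).ne'
  set q : ℂ := (Fintype.card F : ℂ) with hq
  have hq0 : q ≠ 0 := by rw [hq]; exact_mod_cast Fintype.card_ne_zero
  have hP : q ^ 2 - q + 1 ≠ 0 := by
    have h : ((Fintype.card F ^ 2 - Fintype.card F + 1 : ℕ) : ℂ) ≠ 0 := Nat.cast_ne_zero.2 (by omega)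
    push_cast [Nat.le_self_pow two_ne_zero (Fintype.card F)] at h
    exact h
  -- the equation of the degree and the value at the involution
  have heq : ((C.D.w X : ℂ) - C.D.d X) ^ 2 * (q * (q ^ 2 - q + 1)) =
      -(q - 1) * (q ^ 2 - 1) * ((C.D.d X : ℂ) * (1 - C.D.d X)) := by
    have eY1 : (m Y : ℂ) * (Y : G → ℂ) 1 = 1 - C.D.d X := by linear_combination hdeg - hd
    have eYt : (m Y : ℂ) * (Y : G → ℂ) t = 1 - C.D.w X := by linear_combination hat - hw
    have hd0 : (C.D.d X : ℂ) ≠ 0 := by exact_mod_cast C.D.d_ne X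
    have hd1 : (1 : ℂ) - C.D.d X ≠ 0 := by
      rw [← eY1]
      exact mul_ne_zero (fun e => by rw [e] at hsY; norm_num at hsY) hY0
    have hc : -1 + (C.D.w X : ℂ) ^ 2 / (C.D.d X : ℂ) + (1 - (C.D.w X : ℂ)) ^ 2 / (1 - (C.D.d X : ℂ)) =
        (q ^ 2 - 1) / (q * (q ^ 2 - q + 1)) * -(q - 1) := by
      rw [← hcount, ← eY1, ← eYt, ← hd, ← hw]
      have hx1 : (m X : ℂ) ≠ 0 := fun e => by rw [e] at hs; norm_num at hs
      have hy1 : (m Y : ℂ) ≠ 0 := fun e => by rw [e] at hsY; norm_num at hsY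
      field_simp
    have hsum : -1 + (C.D.w X : ℂ) ^ 2 / (C.D.d X : ℂ) + (1 - (C.D.w X : ℂ)) ^ 2 / (1 - (C.D.d X : ℂ)) =
        ((C.D.w X : ℂ) - C.D.d X) ^ 2 / ((C.D.d X : ℂ) * (1 - C.D.d X)) := by
      field_simp
      ring
    rw [hsum, div_mul_eq_mul_div, div_eq_div_iff (mul_ne_zero hd0 hd1) (mul_ne_zero hq0 hP)] at hc
    linear_combination hc
  obtain ⟨w1, -, -, -, -, w3, w4⟩ := C.S.ws
  have hqZ : (27 : ℤ) ≤ Fintype.card F := by exact_mod_cast C.q_ge
  rcases hcase with rfl | rfl | rfl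
  · exfalso
    rw [w1, C.d_e1] at heq
    have hZ : (-1 - ((Fintype.card F : ℤ) ^ 2 - Fintype.card F + 1)) ^ 2 *
        ((Fintype.card F : ℤ) * ((Fintype.card F : ℤ) ^ 2 - Fintype.card F + 1)) =
        -((Fintype.card F : ℤ) - 1) * ((Fintype.card F : ℤ) ^ 2 - 1) *
          (((Fintype.card F : ℤ) ^ 2 - Fintype.card F + 1) *
            (1 - ((Fintype.card F : ℤ) ^ 2 - Fintype.card F + 1))) := by
      apply Int.cast_injective (α := ℂ)
      push_cast at heq ⊢
      linear_combination heq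
    generalize (Fintype.card F : ℤ) = Z at hZ hqZ
    have h0 : Z * (Z ^ 2 - Z + 1) * (5 * Z ^ 2 - 6 * Z + 5) = 0 := by linear_combination hZ
    have h1 : 0 < Z * (Z ^ 2 - Z + 1) * (5 * Z ^ 2 - 6 * Z + 5) :=
      mul_pos (mul_pos (by omega) (by nlinarith)) (by nlinarith)
    omega
  · exfalso
    rw [w3, C.d_c3, C.signed] at heq
    have hZ : (-(Fintype.card F : ℤ) - (Fintype.card F : ℤ) * ((Fintype.card F : ℤ) ^ 2 - Fintype.card F + 1)) ^ 2 *
        ((Fintype.card F : ℤ) * ((Fintype.card F : ℤ) ^ 2 - Fintype.card F + 1)) =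
        -((Fintype.card F : ℤ) - 1) * ((Fintype.card F : ℤ) ^ 2 - 1) *
          ((Fintype.card F : ℤ) * ((Fintype.card F : ℤ) ^ 2 - Fintype.card F + 1) *
            (1 - (Fintype.card F : ℤ) * ((Fintype.card F : ℤ) ^ 2 - Fintype.card F + 1))) := by
      apply Int.cast_injective (α := ℂ)
      push_cast at heq ⊢
      linear_combination heq
    generalize (Fintype.card F : ℤ) = Z at hZ hqZ
    have h0 : Z * (Z ^ 2 - Z + 1) * (Z ^ 2 * ((Z ^ 2 - Z + 1) + 1) ^ 2 -
        (Z - 1) * (Z ^ 2 - 1) * (Z * (Z ^ 2 - Z + 1) - 1)) = 0 := by linear_combination hZ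
    have h2 : 0 < Z ^ 2 * ((Z ^ 2 - Z + 1) + 1) ^ 2 - (Z - 1) * (Z ^ 2 - 1) * (Z * (Z ^ 2 - Z + 1) - 1) := by
      nlinarith [mul_le_mul_of_nonneg_right hqZ (by positivity : (0 : ℤ) ≤ Z ^ 3), sq_nonneg (Z - 1),
        mul_le_mul_of_nonneg_right hqZ (by positivity : (0 : ℤ) ≤ Z ^ 2)]
    have h1 := mul_pos (mul_pos (show 0 < Z by omega) (show (0 : ℤ) < Z ^ 2 - Z + 1 by nlinarith)) h2
    omega
  · refine ⟨rfl, ?_⟩
    have hz : m Y * (deg (Y : G → ℂ) : ℤ) = 1 + (Fintype.card F : ℤ) ^ 3 := by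
      apply Int.cast_injective (α := ℂ)
      rw [C.d_c4] at hd
      push_cast at hd ⊢
      rw [← irr_apply_one_eq_deg]
      linear_combination hdeg - hd
    refine ⟨m Y * (1 + Fintype.card F), ?_⟩
    linear_combination (m Y) * hz - (deg (Y : G → ℂ) : ℤ) * hY1

/-- A generalized character of norm one does not vanish at the identity. -/
theorem one_ne_zero_of_norm (ψ : E → ℂ) (hg : IsGeneralizedCharacter E ψ) (hn : classInner ψ ψ = 1) :
    ψ 1 ≠ 0 := by
  classical
  obtain ⟨a, rfl⟩ := exists_int_decomp hg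
  rw [classInner_self_decomp] at hn
  have h : ∑ χ, a χ ^ 2 = 1 := by
    apply Int.cast_injective (α := ℂ)
    rw [Int.cast_one, ← hn]
    simp [pow_two]
  obtain ⟨X, -, hX, hX0⟩ := Star.unit_vec h
  rw [Finset.sum_apply, Finset.sum_eq_single X (fun χ _ hne => by simp [hX0 χ (Finset.mem_univ _) hne])
    (fun h => absurd (Finset.mem_univ _) h), Pi.smul_apply, smul_eq_mul, irr_apply_one_eq_deg]
  refine mul_ne_zero (Int.cast_ne_zero.2 fun e => ?_) (by exact_mod_cast (deg_irr_pos X).ne')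
  rw [e] at hX
  norm_num at hX

/-- The functions `psi` do not vanish on `T`. -/
theorem psi_split (j : C.D.Tb.J) (hT : ∀ a : P.T, a ≠ 1 → C.D.Tb.psi j ⟨a, P.le a.2⟩ = 0) : False := by
  classical
  obtain ⟨hsp, hn, hK⟩ := C.D.Tb.psi_spec j
  have B := C.base
  obtain ⟨A, C', D', hA, hC', -, -, hAo, hCo, -, hA3, hC3, -, hAC, -⟩ := B.parts
  set ψ := C.D.Tb.psi j
  have hE : Nat.card E = (Fintype.card F) * (A * (4 * C')) := by
    refine Nat.eq_of_mul_eq_mul_left two_pos ?_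
    rw [B.card_E, show (Fintype.card F) ^ 2 - 1 = ((Fintype.card F) + 1) * ((Fintype.card F) - 1) by rw [← one_pow 2, Nat.sq_sub_sq, one_pow], hA, hC']
    ring
  have hq3 : 3 ∣ (Fintype.card F) := B.three_dvd_q
  have hval : ∀ y : E, y ≠ 1 → ψ y * conj ((C.St : E → ℂ) y) = 0 := by
    intro y hy
    by_cases ho : Odd (orderOf y)
    swap
    · rw [hsp.2.2 y ho, zero_mul]
    by_cases h3 : 3 ∣ orderOf y
    · rw [eq_zero_of_defect_zero C.St.2 Nat.prime_three (n := 2 * C.n + 1) ?_ ?_ ?_ h3, map_zero, mul_zero]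
      · rw [← C.card_eq, hE]; exact dvd_mul_right _ _
      · rw [pow_succ, ← C.card_eq, hE]
        intro h
        rcases Nat.prime_three.dvd_mul.1 (Nat.dvd_of_mul_dvd_mul_left (by have := C.q_ge; omega) h) with h' | h'
        · exact hA3 h'
        · rcases Nat.prime_three.dvd_mul.1 h' with h'' | h''
          · norm_num at h''
          · exact hC3 h''
      · rw [C.st_deg, C.card_eq]
    obtain ⟨r, hr, hrd⟩ := Nat.exists_prime_and_dvd (mt orderOf_eq_one_iff.1 hy)
    haveI := Fact.mk hr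
    set z := y ^ (orderOf y / r) with hz
    have hzo : orderOf z = r := orderOf_pow_orderOf_div (orderOf_pos y).ne' hrd
    have hzy : Commute z y := (Commute.refl y).pow_left _
    have hr3 : r ≠ 3 := fun e => h3 (e ▸ hrd)
    have hr2 : r ≠ 2 := fun e => Nat.not_even_iff_odd.2 ho (even_iff_two_dvd.2 (e ▸ hrd))
    have hrq : ¬ r ∣ (Fintype.card F) := fun h => hr3 ((Nat.prime_dvd_prime_iff_eq hr Nat.prime_three).1
      (hr.dvd_of_dvd_pow (by have h' := h; rw [C.card_eq] at h'; exact h')))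
    have hr4 : ¬ r ∣ 4 := fun h => hr2 ((Nat.prime_dvd_prime_iff_eq hr Nat.prime_two).1
      (hr.dvd_of_dvd_pow (show r ∣ 2 ^ 2 from h)))
    have hfac : ∀ X Y : ℕ, Nat.card E = X * Y → ¬ r ∣ Y → r ^ (Nat.card E).factorization r ∣ X :=
      fun X Y hXY hY => ((hr.coprime_iff_not_dvd.2 hY).pow_left _).dvd_of_dvd_mul_right
        (hXY ▸ Nat.ordProj_dvd _ _)
    rcases hr.dvd_mul.1 (hE ▸ hrd.trans (orderOf_dvd_natCard y)) with h | h
    · exact absurd h hrq
    rcases hr.dvd_mul.1 h with h | h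
    · -- conjugate into the split torus
      have hTc : Nat.card (P.T.subgroupOf E) = A := by
        rw [Nat.card_congr (Subgroup.subgroupOfEquivOfLe P.le).toEquiv, P.card]; omega
      obtain ⟨g, hg⟩ := ReeAb.Base.exists_conj_mem (G := E) hr (K := P.T.subgroupOf E) (y := z) (k := 1) (by
        rw [hTc]
        refine hfac A ((Fintype.card F) * (4 * C')) (by rw [hE]; ring) fun h' => ?_
        rcases hr.dvd_mul.1 h' with k | k
        · exact hrq k
        · rcases hr.dvd_mul.1 k with k | k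
          · exact hr4 k
          · exact hr.not_dvd_one (hAC.gcd_eq_one ▸ Nat.dvd_gcd h k)) (by rw [hzo, pow_one])
      have hgz : ((g * z * g⁻¹ : E) : G) ∈ P.T := Subgroup.mem_subgroupOf.1 hg
      have hgy : ((g * y * g⁻¹ : E) : G) ∈ P.T := P.cen _ hgz (fun e => ne_one_of_order hr.ne_one hzo (by
        simpa using (show g * z * g⁻¹ = 1 from Subtype.ext e))) _ (g * y * g⁻¹).2
        ((hzy.symm.map (MulAut.conj g).toMonoidHom).map E.subtype)
      have h0 := hT ⟨_, hgy⟩ fun e => hy (by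
        simpa using (show g * y * g⁻¹ = 1 from Subtype.ext (congrArg (fun a : P.T => (a : G)) e)))
      rw [← hsp.1 y g]
      exact mul_eq_zero_of_left h0 _
    · -- conjugate into `K`
      rcases hr.dvd_mul.1 h with h | h
      · exact absurd h hr4
      have hKc : Nat.card C.D.Tb.K = C' := by
        rw [C.D.Tb.card_K, C.signed]; omega
      obtain ⟨g, hg⟩ := ReeAb.Base.exists_conj_mem (G := E) hr (K := C.D.Tb.K) (y := z) (k := 1) (by
        rw [hKc]
        refine hfac C' ((Fintype.card F) * (A * 4)) (by rw [hE]; ring) fun h' => ?_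
        rcases hr.dvd_mul.1 h' with k | k
        · exact hrq k
        · rcases hr.dvd_mul.1 k with k | k
          · exact hr.not_dvd_one (hAC.gcd_eq_one ▸ Nat.dvd_gcd k h)
          · exact hr4 k) (by rw [hzo, pow_one])
      set y₀ := g * y * g⁻¹ with hy₀
      have hz₀ : ((g * z * g⁻¹ : E) : G) ∈ C.Φ.K := by
        have := (C.e ⟨_, hg⟩).2
        rwa [← C.e_spec (C.e ⟨_, hg⟩), MulEquiv.symm_apply_apply] at this
      have hz₁ : ((g * z * g⁻¹ : E) : G) ≠ 1 := fun e => ne_one_of_order hr.ne_one hzo (by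
        simpa using (show g * z * g⁻¹ = 1 from Subtype.ext e))
      have hyo : Odd (orderOf y₀) := by
        rw [hy₀, ← MulAut.conj_apply, MulEquiv.orderOf_eq]; exact ho
      have hT0 : (y₀ : G) ∈ C.Φ.T0 := C.Φ.mem_T0_of_comm hz₀ hz₁ (C.D.set.hyp.comm _ y₀.2).symm
        ((hzy.symm.map (MulAut.conj g).toMonoidHom).map E.subtype)
      have hyK : y₀ ∈ C.D.Tb.K := (C.D.Tb.comm y₀).2 ⟨hyo, Subtype.ext (by
        have h := C.Φ.K_v (C.Φ.mem_K_of_odd hT0 (by rwa [Subgroup.orderOf_coe]))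
        rw [C.frame_v] at h
        exact h.eq)⟩
      rw [← hsp.1 y g, hK y₀ hyK (fun e => hy (by simpa [hy₀] using e)), zero_mul]
  obtain ⟨M, hM⟩ := exists_isPModular (p := 2) Nat.prime_two
  have h := C.D.Tb.psi_block M hM j C.St (C.st_block M hM)
  rw [classInner_def, Finset.sum_eq_single (1 : E) (fun y _ hy => hval y hy) (fun h => absurd (Finset.mem_univ _) h),
    irr_apply_one_eq_deg, C.st_deg, map_natCast] at h
  have h0 : ψ 1 = 0 := by
    have hq0 : (((Fintype.card F) : ℕ) : ℂ) ≠ 0 := by exact_mod_cast (show (Fintype.card F) ≠ 0 by have := C.q_ge; omega)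
    have hE0 : (Nat.card E : ℂ) ≠ 0 := by exact_mod_cast Nat.card_pos.ne'
    simpa [hq0, hE0] using h
  exact C.one_ne_zero_of_norm ψ hsp.2.1 hn h0

/-- The characters with a nonzero coordinate at `psi j` vanish. -/
theorem psi_vanish (j : C.D.Tb.J) {p : ℕ} (hp : p.Prime) (hpd : p ∣ Fintype.card F ^ 2 - Fintype.card F + 1)
    {g : G} (hg : orderOf g = p) (hgo : Odd (orderOf g)) {χ : IrrCharacter G}
    (hχ : coord t E χ (C.D.Tb.psi j) ≠ 0) : (χ : G → ℂ) g = 0 := by
  classical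
  obtain ⟨P⟩ := exists_split C.base
  obtain ⟨hsp, hn, -⟩ := C.D.Tb.psi_spec j
  haveI := P.cyc
  letI : CommGroup P.T := IsCyclic.commGroup
  haveI : Finite (P.T →* ℂˣ) :=
    Finite.of_equiv P.T (CommGroup.monoidHom_mulEquiv_of_hasEnoughRootsOfUnity P.T ℂ).some.toEquiv.symm
  letI : Fintype (P.T →* ℂˣ) := Fintype.ofFinite _
  -- some function meets `psi`
  obtain ⟨l, hl, hne⟩ : ∃ l : P.T →* ℂˣ, l ≠ 1 ∧
      ∑ χ : IrrCharacter G, (P.mlt C.base l χ : ℂ) * coord t E χ (C.D.Tb.psi j) ≠ 0 := by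
    by_contra hall
    push Not at hall
    refine C.psi_split P j fun b hb => ?_
    have hS : ∀ l : P.T →* ℂˣ, ∑ a : P.T, conj ((l a : ℂ) - 1) * C.D.Tb.psi j ⟨a, P.le a.2⟩ = 0 := fun l => by
      by_cases hl : l = 1
      · subst hl; simp
      · have h := hall l hl
        rw [C.split_target P l _ hsp] at h
        exact (mul_eq_zero.1 h).resolve_left (inv_ne_zero (P.card_T_ne C.base))
    have h : ∑ l : P.T →* ℂˣ, (l b : ℂ) * ∑ a : P.T, conj ((l a : ℂ) - 1) * C.D.Tb.psi j ⟨a, P.le a.2⟩ = 0 :=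
      Finset.sum_eq_zero fun l _ => by rw [hS, mul_zero]
    simp only [Finset.mul_sum, map_sub, map_one, ← mul_assoc, mul_sub, mul_one] at h
    rw [Finset.sum_comm] at h
    simp only [← Finset.sum_mul, Finset.sum_sub_distrib, sum_dual_point b, if_neg hb, sub_zero] at h
    rw [Finset.sum_eq_single b] at h
    · refine (mul_eq_zero.1 h).resolve_left ?_
      rw [Finset.sum_congr rfl fun (l : P.T →* ℂˣ) _ => show (l b : ℂ) * conj (l b : ℂ) = 1 by
        rw [← IsCharacter.conj_inv (isCharacter_linear l), ← Units.val_mul, ← map_mul, mul_inv_cancel, map_one,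
          Units.val_one]]
      simp
    · intro a _ hab
      refine mul_eq_zero_of_left ?_ _
      rw [Finset.sum_congr rfl fun (l : P.T →* ℂˣ) _ => show (l b : ℂ) * conj (l a : ℂ) = (l (b * a⁻¹) : ℂ) by
        rw [← IsCharacter.conj_inv (isCharacter_linear l), ← Units.val_mul, ← map_mul]]
      exact (sum_dual_point (b * a⁻¹)).trans (if_neg fun e => hab (mul_inv_eq_one.1 e).symm)
    · exact fun h => absurd (Finset.mem_univ _) h
  obtain ⟨Y, hYd, hY⟩ := C.split_parts P hl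
  have hYc : coord t E Y (C.D.Tb.psi j) ≠ 0 := by
    intro h0
    refine hne (Finset.sum_eq_zero fun W _ => ?_)
    by_cases hW : P.mlt C.base l W = 0
    · rw [hW, Int.cast_zero, zero_mul]
    rcases hY W hW with rfl | rfl | rfl
    · rw [C.D.psi_zero C.S.mem.1, mul_zero]
    · rw [C.D.psi_zero C.S.mem.2.2.2.2.2.2.2, mul_zero]
    · rw [h0, mul_zero]
  have hvY : (Y : G → ℂ) g = 0 := C.vanish hp hpd hg hYd
  by_cases hχY : χ = Y
  · rw [hχY]; exact hvY
  choose c hc using C.D.SF.coord_int (C.D.Tb.psi j) hsp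
  have hnorm : ∑ χ, c χ ^ 2 = 2 := by
    apply Int.cast_injective (α := ℂ)
    push_cast
    have h := C.D.SF.isometry _ _ hsp hsp
    rw [hn, mul_one] at h
    rw [← h]
    exact Finset.sum_congr rfl fun χ _ => by rw [hc, map_intCast, pow_two]
  obtain ⟨a, -, b, -, hab, -, -, hrest⟩ := Star.pair_vec hnorm
  have hmem : ∀ W, coord t E W (C.D.Tb.psi j) ≠ 0 → W = a ∨ W = b := fun W hW => by
    by_contra h
    push Not at h
    exact hW (by rw [hc, hrest W (Finset.mem_univ _) h.1 h.2, Int.cast_zero])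
  have h := C.D.SF.odd_sum _ hsp g hgo
  rw [Finset.sum_eq_single χ (fun W _ hne' => ?_) (fun h => absurd (Finset.mem_univ _) h)] at h
  · exact (mul_eq_zero.1 h).resolve_left hχ
  · by_cases hW : coord t E W (C.D.Tb.psi j) = 0
    · rw [hW, zero_mul]
    · have hWY : W = Y := by
        rcases hmem χ hχ with e | e <;> rcases hmem Y hYc with e' | e' <;> rcases hmem W hW with e'' | e'' <;>
          subst e e' e'' <;> first | rfl | exact absurd rfl hχY | exact absurd rfl hne'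
      rw [hWY, hvY, mul_zero]

end RCtx

end Cfsg.Lib.Ree.Real
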