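import Cfsg.Agent.Ree.Real.Phi
import Cfsg.Agent.Ree.Real.Psi
import Cfsg.Agent.PiHomogOdd.Main

/-!
In the configuration of Ree type the elements of prime order dividing `q² - q + 1` are real: inverted by
involutions.
-/

set_option autoImplicit false
set_option linter.unusedSectionVars false
set_option linter.style.haveILetI false

namespace Cfsg.Lib.Ree.Real

open Cfsg Cfsg.Lib.Chars Cfsg.Lib.Blocks
open scoped ComplexConjugate

universe u v

variable {G : Type u} [Group G] [Fintype G] {t : G} {E : Subgroup G} [Fintype E] {F : Type v} [Field F]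
  [Fintype F]

namespace RCtx

variable (C : RCtx t E F)
include C

/-- A prime dividing `q² - q + 1` is neither two nor three. -/
theorem prime_ne {p : ℕ} (hpd : p ∣ Fintype.card F ^ 2 - Fintype.card F + 1) : p ≠ 2 ∧ p ≠ 3 := by
  have hd : (p : ℤ) ∣ (Fintype.card F : ℤ) ^ 2 - Fintype.card F + 1 :=
    C.card_Phi ▸ Int.natCast_dvd_natCast.2 hpd
  refine ⟨?_, ?_⟩
  · rintro rfl
    have h2 : (2 : ℤ) ∣ (Fintype.card F : ℤ) * ((Fintype.card F : ℤ) - 1) := by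
      have := C.q_mod
      exact Dvd.dvd.mul_left (show (2 : ℤ) ∣ (Fintype.card F : ℤ) - 1 by omega) _
    have h := hd.sub h2
    rw [show (Fintype.card F : ℤ) ^ 2 - Fintype.card F + 1 -
      (Fintype.card F : ℤ) * ((Fintype.card F : ℤ) - 1) = 1 by ring] at h
    norm_num at h
  · rintro rfl
    have h3 : (3 : ℤ) ∣ (Fintype.card F : ℤ) := by
      rw [C.card_eq]; push_cast; exact dvd_pow_self 3 (by omega)
    have h := hd.sub (h3.mul_right ((Fintype.card F : ℤ) - 1))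
    rw [show (Fintype.card F : ℤ) ^ 2 - Fintype.card F + 1 -
      (Fintype.card F : ℤ) * ((Fintype.card F : ℤ) - 1) = 1 by ring] at h
    norm_num at h

/-- A character outside the members vanishes at the element or at the involution. -/
theorem rest_zero {p : ℕ} (hp : p.Prime) (hpd : p ∣ Fintype.card F ^ 2 - Fintype.card F + 1) {g : G}
    (hg : orderOf g = p) (hgo : Odd (orderOf g)) {χ : IrrCharacter G} (hχ : χ ∉ C.D.R.L) :
    (χ : G → ℂ) g = 0 ∨ (χ : G → ℂ) t = 0 := by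
  by_cases h : (χ : G → ℂ) g = 0
  · exact Or.inl h
  obtain ⟨hx, ha, hb⟩ := C.D.R.rest χ hχ
  have hf := C.D.Tb.complete (sectVal t E χ) (C.D.set.sectVal_class χ) hx ha hb
    (fun θ hθ => by_contra fun hc => h (C.phi_vanish hθ hp hpd hg hgo hc))
    (fun j => by_contra fun hc => h (C.psi_vanish j hp hpd hg hgo hc))
  rw [sectVal, OneMemClass.coe_one, mul_one] at hf
  exact Or.inr hf

/-- The signed values of two members with the same nonzero row, given their degrees. -/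
theorem pair_sum {p : ℕ} (hp : p.Prime) (hpd : p ∣ Fintype.card F ^ 2 - Fintype.card F + 1) {g : G}
    (hg : orderOf g = p) {X Y : IrrCharacter G}
    (hs : C.D.d X + C.D.d Y = Fintype.card F * ((Fintype.card F : ℤ) - 1))
    (hP : C.D.d X * C.D.d Y = -((3 : ℤ) ^ (2 * C.n) * (((Fintype.card F - 1) / 2 : ℕ) : ℤ) ^ 2 *
      ((Fintype.card F : ℤ) ^ 2 - Fintype.card F + 1)))
    (hv : (C.D.R.sg X : ℂ) * (X : G → ℂ) g + (C.D.R.sg Y : ℂ) * (Y : G → ℂ) g = -1) :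
    (C.D.R.sg X : ℂ) * (X : G → ℂ) g / (C.D.d X : ℂ) + (C.D.R.sg Y : ℂ) * (Y : G → ℂ) g / (C.D.d Y : ℂ) =
      (if (p : ℤ) ∣ (Fintype.card F : ℤ) + 1 + 3 * 3 ^ C.n then
        1 / (((((Fintype.card F - 1) / 2 : ℕ) : ℤ) * 3 ^ C.n *
          ((Fintype.card F : ℤ) + 1 - 3 * 3 ^ C.n) : ℤ) : ℂ)
      else -1 / (((((Fintype.card F - 1) / 2 : ℕ) : ℤ) * 3 ^ C.n *
          ((Fintype.card F : ℤ) + 1 + 3 * 3 ^ C.n) : ℤ) : ℂ)) := by
  obtain ⟨hp2, hp3⟩ := C.prime_ne hpd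
  set q : ℤ := (Fintype.card F : ℤ) with hq
  set A : ℤ := (((Fintype.card F - 1) / 2 : ℕ) : ℤ) with hA
  set m : ℤ := 3 ^ C.n with hm
  have hqm : q = 3 * m ^ 2 := by
    rw [hq, hm, C.card_eq, ← pow_mul]; push_cast; rw [pow_succ, mul_comm 2]; ring
  have hA2 : 2 * A = q - 1 := by
    have := C.q_mod; rw [hA, hq]; omega
  have hm2 : (3 : ℤ) ^ (2 * C.n) = m ^ 2 := by rw [hm, ← pow_mul, mul_comm]
  have hfac : q ^ 2 - q + 1 = (q + 1 + 3 * m) * (q + 1 - 3 * m) := by rw [hqm]; ring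
  rw [hm2, hfac] at hP
  -- the two possible degrees
  have hd : (C.D.d X = A * m * (q + 1 + 3 * m) ∧ C.D.d Y = -(A * m * (q + 1 - 3 * m))) ∨
      (C.D.d X = -(A * m * (q + 1 - 3 * m)) ∧ C.D.d Y = A * m * (q + 1 + 3 * m)) := by
    have hroot : (C.D.d X - A * m * (q + 1 + 3 * m)) * (C.D.d X + A * m * (q + 1 - 3 * m)) = 0 := by
      linear_combination C.D.d X * hs - hP + (2 * A * C.D.d X) * hqm - (q * C.D.d X) * hA2
    rcases mul_eq_zero.1 hroot with h | h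
    · exact Or.inl ⟨by linarith, by linear_combination hs - h + (2 * A) * hqm - q * hA2⟩
    · exact Or.inr ⟨by linarith, by linear_combination hs - h + (2 * A) * hqm - q * hA2⟩
  have hpi : Prime (p : ℤ) := Nat.prime_iff_prime_int.1 hp
  have hpP : (p : ℤ) ∣ (q + 1 + 3 * m) * (q + 1 - 3 * m) := by
    rw [← hfac, hq, ← C.card_Phi]; exact Int.natCast_dvd_natCast.2 hpd
  have hnot : (p : ℤ) ∣ q + 1 + 3 * m → ¬ (p : ℤ) ∣ q + 1 - 3 * m := fun h1 h2 => by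
    have h := h1.sub h2
    rw [show q + 1 + 3 * m - (q + 1 - 3 * m) = 2 * 3 ^ (C.n + 1) by rw [hm, pow_succ]; ring] at h
    rcases hpi.dvd_or_dvd h with h' | h'
    · exact hp2 ((Nat.prime_dvd_prime_iff_eq hp Nat.prime_two).1 (Int.natCast_dvd_natCast.1 h'))
    · exact hp3 ((Nat.prime_dvd_prime_iff_eq hp Nat.prime_three).1
        (Int.natCast_dvd_natCast.1 (hpi.dvd_of_dvd_pow h')))
  have hvan : ∀ (W : IrrCharacter G) (f f' : ℤ), f * f' = (q + 1 + 3 * m) * (q + 1 - 3 * m) → ¬ (p : ℤ) ∣ f' →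
      f ∣ C.D.d W → (W : G → ℂ) g = 0 := fun W f f' hff hf' hdW => by
    refine C.vanish_part hp hpd hg (C.dvd_deg_of_d (dvd_trans ?_ hdW))
    refine ((hpi.coprime_iff_not_dvd.2 hf').pow_left).dvd_of_dvd_mul_right ?_
    rw [hff, ← hfac, hq, ← C.card_Phi, ← Nat.cast_pow]
    exact Int.natCast_dvd_natCast.2 (Nat.ordProj_dvd _ _)
  by_cases hc : (p : ℤ) ∣ q + 1 + 3 * m
  · rw [if_pos hc]
    rcases hd with ⟨eX, eY⟩ | ⟨eX, eY⟩
    · have h0 := hvan X _ _ rfl (hnot hc) (eX ▸ dvd_mul_left _ _)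
      rw [h0, mul_zero, zero_add] at hv
      rw [h0, hv, eY, Int.cast_neg, mul_zero, zero_div, zero_add, neg_div_neg_eq]
    · have h0 := hvan Y _ _ rfl (hnot hc) (eY ▸ dvd_mul_left _ _)
      rw [h0, mul_zero, add_zero] at hv
      rw [h0, hv, eX, Int.cast_neg, mul_zero, zero_div, add_zero, neg_div_neg_eq]
  · rw [if_neg hc]
    rcases hd with ⟨eX, eY⟩ | ⟨eX, eY⟩
    · have h0 := hvan Y _ _ (mul_comm _ _) hc (eY ▸ (dvd_neg.2 (dvd_mul_left _ _)))
      rw [h0, mul_zero, add_zero] at hv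
      rw [h0, hv, eX, mul_zero, zero_div, add_zero]
    · have h0 := hvan X _ _ (mul_comm _ _) hc (eX ▸ (dvd_neg.2 (dvd_mul_left _ _)))
      rw [h0, mul_zero, zero_add] at hv
      rw [h0, hv, eY, mul_zero, zero_div, zero_add]

/-- The sum counting the pairs of involutions does not vanish. -/
theorem count_ne {p : ℕ} (hp : p.Prime) (hpd : p ∣ Fintype.card F ^ 2 - Fintype.card F + 1) {g : G}
    (hg : orderOf g = p) :
    ∑ χ : IrrCharacter G, (χ : G → ℂ) t ^ 2 * (χ : G → ℂ) g / (χ : G → ℂ) 1 ≠ 0 := by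
  classical
  have hgo : Odd (orderOf g) := hg ▸ hp.odd_of_ne_two (C.prime_ne hpd).1
  obtain ⟨r0, r1, r5, r6, r7, r8, r3, r4⟩ := C.S.rows
  obtain ⟨w1, w5, w6, w7, w8, w3, w4⟩ := C.S.ws
  obtain ⟨mo, m1, m5, m6, m7, m8, m3, m4⟩ := C.S.mem
  obtain ⟨hone, hso⟩ := C.princ_o
  set v : IrrCharacter G → ℂ := fun χ => (C.D.R.sg χ : ℂ) * (χ : G → ℂ) g with hv
  have vo : v C.S.o = -1 := by simp [hv, hone, hso]
  have v1 : v C.S.e1 = 0 := by
    simp only [hv, C.vanish hp hpd hg (C.dvd_deg_of_d (dvd_of_eq C.d_e1.symm)), mul_zero]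
  have v3 : v C.S.c3 = 0 := by
    simp only [hv, C.vanish hp hpd hg (C.dvd_deg_of_d (C.d_c3 ▸ dvd_mul_left _ _)), mul_zero]
  have key : ∀ (ψ : E → ℂ) (r : IrrCharacter G → ℤ), IsSpecial ψ → (∀ χ, χ ∉ C.D.R.L → coord t E χ ψ = 0) →
      (∀ χ ∈ C.D.R.L, coord t E χ ψ = ((C.D.R.sg χ * r χ : ℤ) : ℂ)) →
      (C.D.R.L.map fun χ => (r χ : ℂ) * v χ).sum = 0 := by
    intro ψ r hψ h0 hr
    rw [← C.D.SF.odd_sum ψ hψ g hgo, C.D.sum_split,
      Finset.sum_eq_zero (fun χ hχ => by rw [h0 χ (C.D.mem_O.1 hχ), zero_mul]), add_zero]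
    refine congrArg List.sum (List.map_congr_left fun χ hχ => ?_)
    simp only [hr χ hχ, hv]
    push_cast
    ring
  have hx := key _ _ C.D.Tb.spec_x (fun χ h => (C.D.R.rest χ h).1) (fun χ h => (C.D.R.coords χ h).1)
  have ha := key _ _ C.D.Tb.spec_al (fun χ h => (C.D.R.rest χ h).2.1) (fun χ h => (C.D.R.coords χ h).2.1)
  have hb := key _ _ C.D.Tb.spec_be (fun χ h => (C.D.R.rest χ h).2.2) (fun χ h => (C.D.R.coords χ h).2.2)
  rw [C.S.sum] at hx ha hb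
  simp only [r0, r1, r5, r6, r7, r8, r3, r4, Int.cast_one, Int.cast_zero, one_mul, zero_mul, add_zero, zero_add,
    vo, v1, v3] at hx ha hb
  have v4 : v C.S.c4 = 1 := by linear_combination hx
  have v56 : v C.S.c5 + v C.S.c6 = -1 := by linear_combination ha - v4
  have v78 : v C.S.c7 + v C.S.c8 = -1 := by linear_combination hb - v4
  -- the degrees
  set q : ℤ := (Fintype.card F : ℤ) with hq
  set A : ℤ := (((Fintype.card F - 1) / 2 : ℕ) : ℤ) with hA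
  have hA2 : 2 * A = q - 1 := by
    have := C.q_mod; rw [hA, hq]; omega
  have hq27 : (27 : ℤ) ≤ q := by rw [hq]; exact_mod_cast C.q_ge
  have hM : midVal (signedCard F) = -A := by rw [midVal, C.signed]; omega
  obtain ⟨-, h56, h78⟩ := C.S.cols
  rw [C.d_c3, C.d_c4, ← hq] at h56 h78
  obtain ⟨hdeg, h7s⟩ := C.S.degrees
  have hmid := hdeg.eq_a
  rw [C.h_eq, C.d_c3, C.d_c4, hM, C.signed, ← hq] at hmid
  have hP0 : q ^ 2 - q + 1 ≠ 0 := by nlinarith
  have hprod : ∀ a b : ℤ, a ≠ 0 → b ≠ 0 → a + b = q * (q - 1) →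
      (1 : ℚ) / (a : ℚ) + 1 / (b : ℚ) = 1 / (C.D.d C.S.c5 : ℚ) + 1 / (C.D.d C.S.c6 : ℚ) →
      a * b = -((3 : ℤ) ^ (2 * C.n) * A ^ 2 * (q ^ 2 - q + 1)) := by
    intro a b ha hb hs he
    have e := hmid
    rw [← he] at e
    have ha' : (a : ℚ) ≠ 0 := Int.cast_ne_zero.2 ha
    have hb' : (b : ℚ) ≠ 0 := Int.cast_ne_zero.2 hb
    have hq' : (q : ℚ) ≠ 0 := Int.cast_ne_zero.2 (by omega)
    have hP' : (q : ℚ) ^ 2 - q + 1 ≠ 0 := by exact_mod_cast hP0
    push_cast at e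
    have hab : ((1 : ℚ) / a + 1 / b) * (a * b) = b + a := by field_simp
    have hc : ((q : ℚ) ^ 2 * ((q : ℚ) ^ 2 - q + 1)) * (q : ℚ) ^ 2 *
        (1 / ((q : ℚ) * ((q : ℚ) ^ 2 - q + 1)) + 1 / -((q : ℚ) ^ 3)) = (q : ℚ) ^ 2 - q := by
      rw [show (1 : ℚ) / ((q : ℚ) * ((q : ℚ) ^ 2 - q + 1)) + 1 / -((q : ℚ) ^ 3) =
        ((q : ℚ) ^ 2 - ((q : ℚ) ^ 2 - q + 1)) / ((q : ℚ) ^ 3 * ((q : ℚ) ^ 2 - q + 1)) by
          generalize hΦ : (q : ℚ) ^ 2 - q + 1 = P at hP' ⊢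
          field_simp
          ring, ← mul_div_assoc, div_eq_iff (mul_ne_zero (pow_ne_zero 3 hq') hP')]
      ring
    have eZ : ((q ^ 2 - q + 1) * A ^ 2 * q ^ 2 * (b + a) + a * b * (q ^ 2 - q)) = -(a * b * q * (3 * q - 1) * (q - 1)) := by
      apply Int.cast_injective (α := ℚ)
      push_cast
      linear_combination (a * b : ℚ) * e - ((q : ℚ) ^ 2 * ((q : ℚ) ^ 2 - q + 1) * (A : ℚ) ^ 2) * hab -
        (a * b : ℚ) * hc
    have h3 : q * (q - 1) * q * (q * A ^ 2 * (q ^ 2 - q + 1) + 3 * (a * b)) = 0 := by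
      linear_combination eZ - ((q ^ 2 - q + 1) * A ^ 2 * q ^ 2) * hs
    have h4 := (mul_eq_zero.1 h3).resolve_left
      (mul_ne_zero (mul_ne_zero (by omega) (by omega)) (by omega))
    have h5 : q = 3 * 3 ^ (2 * C.n) := by rw [hq, C.card_eq, pow_succ']; push_cast; rfl
    rw [h5] at h4 ⊢
    refine mul_left_cancel₀ (three_ne_zero (α := ℤ)) ?_
    linear_combination h4
  have hs56 : C.D.d C.S.c5 + C.D.d C.S.c6 = q * (q - 1) := by linear_combination h56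
  have hs78 : C.D.d C.S.c7 + C.D.d C.S.c8 = q * (q - 1) := by linear_combination h78
  have e56 := C.pair_sum hp hpd hg hs56 (hprod _ _ (C.D.d_ne _) (C.D.d_ne _) hs56 rfl) v56
  have e78 := C.pair_sum hp hpd hg hs78 (hprod _ _ (C.D.d_ne _) (C.D.d_ne _) hs78 h7s) v78
  rw [← hA, ← hq] at e56 e78
  -- the sum over the members
  rw [C.D.sum_split, Finset.sum_eq_zero (fun χ hχ => by
    rcases C.rest_zero hp hpd hg hgo (C.D.mem_O.1 hχ) with h | h <;> rw [h] <;> simp), add_zero,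
    List.map_congr_left (g := fun χ => (C.D.w χ : ℂ) ^ 2 * v χ / (C.D.d χ : ℂ)) fun χ hχ => by
      rw [C.D.value_t hχ, C.D.deg_c]
      simp only [hv]
      rcases Int.mul_eq_one_iff_eq_one_or_neg_one.1 (C.D.R.sg_sq χ) with ⟨e, -⟩ | ⟨e, -⟩ <;> rw [e] <;>
        push_cast <;> ring,
    C.S.sum, vo, v1, v3, v4, C.S.head.1, C.S.head.2.1, w4, w5, w6, w7, w8, hM, C.signed, ← hq, C.d_c4, ← hq]
  set m : ℤ := 3 ^ C.n with hm
  push_cast at e56 e78 ⊢
  have hm3 : 3 ≤ m := by rw [hm]; exact le_self_pow₀ (by norm_num) (by have := C.n_pos; omega)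
  have hqm : q = 3 * m ^ 2 := by
    rw [hq, hm, C.card_eq, ← pow_mul]; push_cast; rw [pow_succ, mul_comm 2]; ring
  have hA0 : A ≠ 0 := by omega
  have nA : (A : ℂ) ≠ 0 := Int.cast_ne_zero.2 hA0
  have nq : (q : ℂ) ≠ 0 := Int.cast_ne_zero.2 (by omega)
  have nm : (m : ℂ) ≠ 0 := Int.cast_ne_zero.2 (by omega)
  have fin : ∀ (w ε : ℤ), 0 < w → (m * w + ε * q ≠ 0) →
      (1 : ℂ) - 1 / (q : ℂ) + 2 * (ε : ℂ) * ((A : ℂ) ^ 2 * (1 / ((A : ℂ) * m * w))) ≠ 0 := by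
    intro w ε hw hne e
    have nw : (w : ℂ) ≠ 0 := Int.cast_ne_zero.2 (by omega)
    field_simp at e
    have hz : (q - 1) * (m * w + ε * q) = 0 := by
      have hA2c : 2 * (A : ℂ) = (q : ℂ) - 1 := by exact_mod_cast hA2
      apply Int.cast_injective (α := ℂ)
      push_cast
      linear_combination e - ((ε : ℂ) * q) * hA2c
    exact hne ((mul_eq_zero.1 hz).resolve_left (by omega))
  have hw : ∀ s : ℤ, s = 1 ∨ s = -1 → 0 < q + 1 + s * (3 * m) ∧ q < m * (q + 1 + s * (3 * m)) := by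
    intro s hs
    rcases hs with rfl | rfl <;> rw [hqm] <;> constructor <;> nlinarith
  intro hz
  by_cases hc : (p : ℤ) ∣ q + 1 + 3 * m
  · rw [if_pos hc] at e56 e78
    obtain ⟨h0, h1⟩ := hw (-1) (Or.inr rfl)
    refine fin (q + 1 + -1 * (3 * m)) 1 h0 (by omega) ?_
    rw [show q + 1 + -1 * (3 * m) = q + 1 - 3 * m by ring]
    push_cast
    push_cast at e56 e78
    have hcan : (q : ℂ) ^ 2 * 1 / -((q : ℂ) ^ 3) = -(1 / (q : ℂ)) := by field_simp
    linear_combination hz - (A : ℂ) ^ 2 * e56 - (A : ℂ) ^ 2 * e78 - hcan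
  · rw [if_neg hc] at e56 e78
    obtain ⟨h0, h1⟩ := hw 1 (Or.inl rfl)
    refine fin (q + 1 + 1 * (3 * m)) (-1) h0 (by omega) ?_
    push_cast
    push_cast at e56 e78
    have hcan : (q : ℂ) ^ 2 * 1 / -((q : ℂ) ^ 3) = -(1 / (q : ℂ)) := by field_simp
    linear_combination hz - (A : ℂ) ^ 2 * e56 - (A : ℂ) ^ 2 * e78 - hcan

/-- The element is inverted by an involution. -/
theorem inverted {p : ℕ} (hp : p.Prime) (hpd : p ∣ Fintype.card F ^ 2 - Fintype.card F + 1) {g : G}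
    (hg : orderOf g = p) : ∃ i : G, i * i = 1 ∧ i * g * i⁻¹ = g⁻¹ := by
  classical
  have h : (Nat.card {x : G × G // IsConj t x.1 ∧ IsConj t x.2 ∧ x.1 * x.2 = g⁻¹} : ℂ) ≠ 0 := by
    rw [class_mult_formula, Finset.sum_congr rfl fun (χ : IrrCharacter G) _ =>
      show (χ : G → ℂ) t * (χ : G → ℂ) t * conj ((χ : G → ℂ) g⁻¹) / (χ : G → ℂ) 1 =
        (χ : G → ℂ) t ^ 2 * (χ : G → ℂ) g / (χ : G → ℂ) 1 by
          rw [← IsCharacter.conj_inv (isCharacter_of_irr χ.2), inv_inv]; ring]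
    have : Nonempty {x : G // IsConj t x} := ⟨⟨t, IsConj.refl t⟩⟩
    have hc : (Nat.card {x : G // IsConj t x} : ℂ) ≠ 0 := Nat.cast_ne_zero.2 Nat.card_pos.ne'
    exact mul_ne_zero (div_ne_zero (mul_ne_zero hc hc) (Nat.cast_ne_zero.2 Nat.card_pos.ne'))
      (C.count_ne hp hpd hg)
  obtain ⟨⟨⟨a, b⟩, ha, hb, hab⟩⟩ := (Nat.card_ne_zero.1 fun e => h (by rw [e, Nat.cast_zero])).1
  have sq : ∀ s : G, IsConj t s → s * s = 1 := fun s hs => by
    obtain ⟨c, rfl⟩ := isConj_iff.1 hs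
    rw [show c * t * c⁻¹ * (c * t * c⁻¹) = c * (t * t) * c⁻¹ by group, C.base.tt]
    group
  refine ⟨a, sq a ha, ?_⟩
  have hg' : g = b⁻¹ * a⁻¹ := by rw [← mul_inv_rev]; exact (inv_inv g).symm.trans (congrArg Inv.inv hab.symm)
  have hai : a⁻¹ = a := inv_eq_of_mul_eq_one_right (sq a ha)
  have hbi : b⁻¹ = b := inv_eq_of_mul_eq_one_right (sq b hb)
  rw [hg', hai, hbi, mul_inv_rev, hai, hbi, mul_assoc, mul_assoc, sq a ha, mul_one]

end RCtx

end Cfsg.Lib.Ree.Real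

namespace Cfsg.Lib.PiHomog

open Cfsg.Lib

universe u

/-- The elements of prime order dividing `q² - q + 1` are real. -/
theorem realProp : RealProp.{u} := by
  intro G _ _ t E F _ _ H p hp hpd g hg
  classical
  letI := Fintype.ofFinite G
  obtain ⟨C⟩ := Ree.Real.exists_rctx H
  exact C.inverted hp hpd hg

end Cfsg.Lib.PiHomog
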