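import Cfsg.Agent.ReeAbelian.Degrees
import Cfsg.Agent.Ree.Torus.Func.Main
import Cfsg.Agent.Ree.PSL.Main
import Cfsg.Agent.Chars.DefectZero

/-!
The data for the real elements of a simple group of Ree order: the context with the frame of its torus functions,
the Steinberg character of `E` and the first configuration at the chosen character of the torus.
-/

set_option autoImplicit false
set_option linter.unusedSectionVars false
set_option linter.style.haveILetI false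

namespace Cfsg.Lib.Ree.Real

open Cfsg Cfsg.Lib.Chars Cfsg.Lib.Blocks

universe u v

/-- The data. -/
structure RCtx {G : Type u} [Group G] [Fintype G] (t : G) (E : Subgroup G) [Fintype E] (F : Type v) [Field F]
    [Fintype F] where
  D : Ctx t E F
  n : ℕ
  n_pos : 1 ≤ n
  card_eq : Fintype.card F = 3 ^ (2 * n + 1)
  St : IrrCharacter E
  st_block : ∀ M : Ideal AlgInt, IsPModular 2 M → St ∈ principalBlock M E
  st_deg : deg (St : E → ℂ) = Fintype.card F
  st_split : ∀ (y : E) (r : ℕ), Odd (orderOf y) → r.Prime → r ∣ (Fintype.card F - 1) / 2 → r ∣ orderOf y →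
    (St : E → ℂ) y = 1
  x_eq : ∀ y : E, D.Tb.x y = -1 - (St : E → ℂ) y
  Φ : Frame t
  frame_v : Φ.v = (D.Tb.v : G)
  moved : Φ.Moved
  e : D.Tb.K ≃* Φ.K
  e_spec : ∀ y : Φ.K, (((e.symm y : D.Tb.K) : E) : G) = y
  a_eq : D.TF.a = fun i θ χ => Φ.mlt i (θ.comp e.symm.toMonoidHom) χ
  S : Ctx.Five D
  h_eq : D.h = (Fintype.card F : ℤ) ^ 2 * ((Fintype.card F : ℤ) ^ 2 - Fintype.card F + 1)
  pattern : D.b D.TF.θ₀ S.e1 = -1 ∧ D.b D.TF.θ₀ S.c3 = 1
  d_e1 : D.d S.e1 = (Fintype.card F : ℤ) ^ 2 - Fintype.card F + 1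
  d_c3 : D.d S.c3 = Fintype.card F * ((Fintype.card F : ℤ) ^ 2 - Fintype.card F + 1)
  d_c4 : D.d S.c4 = -((Fintype.card F : ℤ) ^ 3)

variable {G : Type u} [Group G] [Fintype G] {t : G} {E : Subgroup G} [Fintype E] {F : Type v} [Field F]
  [Fintype F]

/-- The first configuration with its pattern. -/
theorem exists_pattern (D : Ctx t E F) : ∃ S : Ctx.Five D,
    (D.b D.TF.θ₀ S.e1 = -1 ∧ D.b D.TF.θ₀ S.c3 = 1) ∧
    TypeA (signedCard F) D.h (-D.d S.e1) (D.d S.c3) (D.d S.c4) (D.d S.c5) (D.d S.c6) := by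
  obtain ⟨S₀, -⟩ := ReeAb.exists_five_typeA D
  rcases (S₀.classify D.TF.θ₀_ne).2 with ⟨h1, h5, h6, h7, h8, ⟨h3, h4⟩ | ⟨h3, h4⟩⟩ |
    ⟨h1, h3, h4, ⟨h5, h6⟩ | ⟨h5, h6⟩, ⟨h7, h8⟩ | ⟨h7, h8⟩⟩
  · exact ⟨S₀, ⟨h1, h3⟩, S₀.typeA_data h1 h5 h6 h7 h8 h3 h4⟩
  · exact ⟨S₀.swap34, ⟨h1, h4⟩, S₀.swap34.typeA_data h1 h5 h6 h7 h8 h4 h3⟩
  · exact (S₀.typeB_false h1 h5 h6 h7 h8 h3 h4).elim
  · exact (S₀.swap78.typeB_false h1 h5 h6 h8 h7 h3 h4).elim
  · exact (S₀.swap56.typeB_false h1 h6 h5 h7 h8 h3 h4).elim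
  · exact (S₀.swap56.swap78.typeB_false h1 h6 h5 h8 h7 h3 h4).elim

/-- The data exist. -/
theorem exists_rctx (H : Setting t E F) : Nonempty (RCtx t E F) := by
  classical
  obtain ⟨Tb, R, hx⟩ := pslSpec_rows.{u, v} H.mod H.big H.hyp.iso
  obtain ⟨M, hM⟩ := exists_isPModular (p := 2) Nat.prime_two
  obtain ⟨SF, SB, ⟨RF⟩⟩ := sectSpec.{u, v} G t E F H Tb M hM
  obtain ⟨Φ, hΦv, hmv, e, hec, TF, ha⟩ := torusFun_frame H Tb SF
  obtain ⟨S, hpat, hA⟩ := exists_pattern ⟨H, Tb, M, SF, SB, RF, TF⟩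
  obtain ⟨m, hm, hQ, hh⟩ := typeASpec _ _ _ _ _ _ _ hA
  have hh2 := ReeAb.typeA_index hA
  have hmod := H.mod
  have hF : Fintype.card F = 3 ^ (2 * m + 1) := by
    have h : (Fintype.card F : ℤ) = ((3 : ℕ) ^ (2 * m + 1) : ℕ) := by
      rw [(Ctx.card_F (⟨H, Tb, M, SF, SB, RF, TF⟩ : Ctx t E F)).1, hQ]; simp
    exact_mod_cast h
  have hQ' : signedCard F = -(Fintype.card F : ℤ) := by rw [hQ, hF]; push_cast; ring
  have h8 : Fintype.card F % 8 = 3 := by
    rcases hmod with h | h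
    · exact h
    · rw [signedCard, if_pos h] at hQ'
      have := Fintype.card_pos (α := F)
      omega
  have hq0 : (Fintype.card F : ℤ) ≠ 0 := by exact_mod_cast Fintype.card_ne_zero
  have hh' : Ctx.h (⟨H, Tb, M, SF, SB, RF, TF⟩ : Ctx t E F) =
      (Fintype.card F : ℤ) ^ 2 * ((Fintype.card F : ℤ) ^ 2 - Fintype.card F + 1) := by
    rw [hh, hQ']; ring
  have hd1 : Ctx.d ⟨H, Tb, M, SF, SB, RF, TF⟩ S.e1 = (Fintype.card F : ℤ) ^ 2 - Fintype.card F + 1 := by
    refine mul_left_cancel₀ (pow_ne_zero 2 hq0) ?_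
    rw [hh2, hQ'] at hh'
    linear_combination hh'
  have hd3 : Ctx.d ⟨H, Tb, M, SF, SB, RF, TF⟩ S.c3 =
      Fintype.card F * ((Fintype.card F : ℤ) ^ 2 - Fintype.card F + 1) := by
    rw [hA.prop, hQ', hd1]; ring
  have hd4 : Ctx.d ⟨H, Tb, M, SF, SB, RF, TF⟩ S.c4 = -((Fintype.card F : ℤ) ^ 3) := by
    have := S.cols.1
    rw [hd1, hd3] at this
    linear_combination this
  have hsgn : PSL.sgn F = -1 := if_neg (by omega)
  refine ⟨{
    D := ⟨H, Tb, M, SF, SB, RF, TF⟩, n := m, n_pos := hm, card_eq := hF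
    St := R.St
    st_block := fun M' hM' => (R.block M' hM' _).2 (Or.inr (Or.inl rfl))
    st_deg := R.deg_St
    st_split := ?_
    x_eq := ?_
    Φ := Φ, frame_v := hΦv, moved := hmv, e := e, e_spec := hec, a_eq := ha
    S := S, h_eq := hh', pattern := hpat, d_e1 := hd1, d_c3 := hd3, d_c4 := hd4 }⟩
  · intro y r hy hr hrd hry
    set A := (Fintype.card F - 1) / 2 with hA
    have hM2 : (((Fintype.card F : ℤ) * PSL.sgn F + 1) / 2).natAbs = A := by rw [hsgn]; omega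
    have hodd : Odd (Fintype.card F) := Nat.odd_iff.2 (by omega)
    have hcardE : 2 * Nat.card E = Fintype.card F * (2 * A) * (Fintype.card F + 1) := by
      rw [Nat.card_congr H.hyp.iso.some.toEquiv, Cfsg.Lib.PSLTwoDihedral.card_P (F := F) (Nat.odd_iff.1 hodd),
        show 2 * A = Fintype.card F - 1 by omega, mul_assoc]
      congr 1
      rw [← one_pow 2, Nat.sq_sub_sq, one_pow, mul_comm]
    have hE : Nat.card E = A * (Fintype.card F * (Fintype.card F + 1)) :=
      Nat.eq_of_mul_eq_mul_left two_pos (hcardE.trans (by ring))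
    have hrest : ¬ r ∣ Fintype.card F * (Fintype.card F + 1) := by
      have hA1 : r ∣ Fintype.card F - 1 := hrd.trans (Nat.div_dvd_of_dvd (by omega))
      intro h
      rcases hr.dvd_mul.1 h with h' | h'
      · have := Nat.dvd_sub h' hA1
        rw [show Fintype.card F - (Fintype.card F - 1) = 1 by omega] at this
        exact hr.not_dvd_one this
      · have := Nat.dvd_sub h' hA1
        rw [show Fintype.card F + 1 - (Fintype.card F - 1) = 2 by omega] at this
        obtain rfl := (Nat.prime_dvd_prime_iff_eq hr Nat.prime_two).1 this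
        exact absurd hrd (by omega)
    set k := A.factorization r with hk
    have hA0 : A ≠ 0 := by omega
    have h1 : r ^ k ∣ Nat.card E := (Nat.ordProj_dvd A r).trans (hE ▸ dvd_mul_right _ _)
    have h2 : ¬ r ^ (k + 1) ∣ Nat.card E := fun h => Nat.pow_succ_factorization_not_dvd hA0 hr
      (((hr.coprime_iff_not_dvd.2 hrest).pow_left _).dvd_of_dvd_mul_right (hE ▸ h))
    have hvan : ∀ χ : IrrCharacter E, deg (χ : E → ℂ) = A → (χ : E → ℂ) y = 0 := fun χ h =>
      eq_zero_of_defect_zero χ.2 hr h1 h2 (h ▸ Nat.ordProj_dvd A r) hry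
    have h := R.odd y hy
    rw [hvan _ (R.deg_a.trans hM2), hvan _ (R.deg_b.trans hM2)] at h
    simp only [hsgn, Int.cast_neg, Int.cast_one] at h
    linear_combination -h
  · intro y
    show Tb.x y = _
    rw [hx, PSL.Rows.x, R.comb_apply]
    simp [hsgn]
    ring

namespace RCtx

variable (C : RCtx t E F)
include C

theorem q_ge : 27 ≤ Fintype.card F := by
  rw [C.card_eq]
  exact le_trans (by norm_num) (Nat.pow_le_pow_right three_pos (show 3 ≤ 2 * C.n + 1 by have := C.n_pos; omega))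

theorem q_mod : Fintype.card F % 8 = 3 := by
  rw [C.card_eq, pow_succ, pow_mul, Nat.mul_mod, Nat.pow_mod]
  norm_num

theorem signed : signedCard F = -(Fintype.card F : ℤ) := by
  rw [signedCard, if_neg (by have := C.q_mod; omega)]

/-- The order in integers. -/
theorem card_G : (Nat.card G : ℤ) = (Fintype.card F : ℤ) ^ 3 * ((Fintype.card F : ℤ) ^ 2 - 1) *
    ((Fintype.card F : ℤ) ^ 2 - Fintype.card F + 1) := by
  rw [C.D.SF.order]
  have h := C.h_eq
  rw [Ctx.h] at h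
  have h1 : 1 ≤ Fintype.card F ^ 2 := Nat.one_le_pow _ _ Fintype.card_pos
  push_cast [h1]
  rw [h]
  ring

theorem card_Phi : ((Fintype.card F ^ 2 - Fintype.card F + 1 : ℕ) : ℤ) =
    (Fintype.card F : ℤ) ^ 2 - Fintype.card F + 1 := by
  push_cast [Nat.le_self_pow two_ne_zero (Fintype.card F)]
  ring

/-- A character whose degree is a multiple of the `p`-part of `q² - q + 1` vanishes at the elements of order
`p`. -/
theorem vanish_part {χ : IrrCharacter G} {p : ℕ} (hp : p.Prime)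
    (hpd : p ∣ Fintype.card F ^ 2 - Fintype.card F + 1) {g : G} (hg : orderOf g = p)
    (hd : ((p : ℤ) ^ (Fintype.card F ^ 2 - Fintype.card F + 1).factorization p) ∣ (deg (χ : G → ℂ) : ℤ)) :
    (χ : G → ℂ) g = 0 := by
  set q := Fintype.card F with hq
  set P := q ^ 2 - q + 1 with hP
  have hPz := C.card_Phi
  rw [← hq, ← hP] at hPz
  have hpz : (p : ℤ) ∣ (q : ℤ) ^ 2 - q + 1 := hPz ▸ Int.natCast_dvd_natCast.2 hpd
  have hpi : Prime (p : ℤ) := Nat.prime_iff_prime_int.1 hp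
  have hp3 : p ≠ 3 := by
    rintro rfl
    have h3 : (3 : ℤ) ∣ q := by rw [hq, C.card_eq]; push_cast; exact dvd_pow_self 3 (by omega)
    have h31 : (3 : ℤ) ∣ 1 := by
      have := hpz.sub (h3.mul_right ((q : ℤ) - 1))
      rwa [show (q : ℤ) ^ 2 - q + 1 - q * (q - 1) = 1 by ring] at this
    omega
  have hrest : ¬ (p : ℤ) ∣ (q : ℤ) ^ 3 * ((q : ℤ) ^ 2 - 1) := by
    intro h
    rcases hpi.dvd_or_dvd h with h' | h'
    · have := hpi.dvd_of_dvd_pow h'
      rw [hq, C.card_eq] at this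
      push_cast at this
      exact hp3 ((Nat.prime_dvd_prime_iff_eq hp Nat.prime_three).1 (Int.natCast_dvd_natCast.1 (hpi.dvd_of_dvd_pow this)))
    · rw [show (q : ℤ) ^ 2 - 1 = ((q : ℤ) + 1) * (q - 1) by ring] at h'
      rcases hpi.dvd_or_dvd h' with h'' | h''
      · have := hpz.sub (h''.mul_right ((q : ℤ) - 2))
        rw [show (q : ℤ) ^ 2 - q + 1 - (q + 1) * (q - 2) = 3 by ring] at this
        exact hp3 ((Nat.prime_dvd_prime_iff_eq hp Nat.prime_three).1 (Int.natCast_dvd_natCast.1 this))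
      · have := hpz.sub (h''.mul_right (q : ℤ))
        rw [show (q : ℤ) ^ 2 - q + 1 - (q - 1) * q = 1 by ring] at this
        exact hp.not_dvd_one (Int.natCast_dvd_natCast.1 this)
  have hP0 : P ≠ 0 := by omega
  refine eq_zero_of_defect_zero χ.2 hp (n := P.factorization p) ?_ ?_ ?_ (by rw [hg])
  · refine (Nat.ordProj_dvd P p).trans (Int.natCast_dvd_natCast.1 ?_)
    rw [hPz, C.card_G]
    exact dvd_mul_left _ _
  · intro h
    have h' : ((p ^ (P.factorization p + 1) : ℕ) : ℤ) ∣ (P : ℤ) * ((q : ℤ) ^ 3 * ((q : ℤ) ^ 2 - 1)) := by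
      have := Int.natCast_dvd_natCast.2 h
      rw [C.card_G] at this
      rw [hPz, mul_comm]
      exact this
    refine Nat.pow_succ_factorization_not_dvd hP0 hp (Int.natCast_dvd_natCast.1 ?_)
    rw [Nat.cast_pow] at h' ⊢
    exact ((hpi.coprime_iff_not_dvd.2 hrest).pow_left).dvd_of_dvd_mul_right h'
  · exact Int.natCast_dvd_natCast.1 (by rw [Nat.cast_pow]; exact hd)

/-- A character whose degree is a multiple of `q² - q + 1` vanishes at the elements of prime order dividing it. -/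
theorem vanish {χ : IrrCharacter G} {p : ℕ} (hp : p.Prime)
    (hpd : p ∣ Fintype.card F ^ 2 - Fintype.card F + 1) {g : G} (hg : orderOf g = p)
    (hd : ((Fintype.card F : ℤ) ^ 2 - Fintype.card F + 1) ∣ (deg (χ : G → ℂ) : ℤ)) : (χ : G → ℂ) g = 0 := by
  refine C.vanish_part hp hpd hg (dvd_trans ?_ hd)
  rw [← C.card_Phi, ← Nat.cast_pow]
  exact Int.natCast_dvd_natCast.2 (Nat.ordProj_dvd _ _)

theorem dvd_deg_of_d {χ : IrrCharacter G} {c : ℤ} (h : c ∣ C.D.d χ) : c ∣ (deg (χ : G → ℂ) : ℤ) := by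
  rw [Ctx.d] at h
  have := h.mul_left (C.D.R.sg χ)
  rwa [← mul_assoc, C.D.R.sg_sq, one_mul] at this

end RCtx

end Cfsg.Lib.Ree.Real
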