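import Cfsg.Agent.Ree.Real.Torus

/-!
The characters met by the functions `phi` of the torus `K` vanish at the elements of prime order dividing
`q² - q + 1`.
-/

set_option autoImplicit false
set_option linter.unusedSectionVars false
set_option linter.style.haveILetI false

namespace Cfsg.Lib.Ree.Real

open Cfsg Cfsg.Lib.Chars Cfsg.Lib.Blocks
open scoped ComplexConjugate

universe u v

variable {G : Type u} [Group G] [Fintype G] {t : G} {E : Subgroup G} [Fintype E] {F : Type v} [Field F]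
  [Fintype F]

namespace RCtx

variable (C : RCtx t E F)
include C

/-- The sum over all characters of a function which is zero outside the list is the sum over the list. -/
theorem sum_list {θ : C.D.Tb.K →* ℂˣ} (hθ : θ ≠ 1) {i : Fin 4} (hi : i ≠ 0) {χ : IrrCharacter G}
    (hχ : χ ∈ C.D.R.L) : C.D.TF.a i θ χ = C.D.TF.a 1 θ χ :=
  (C.D.TF.rel χ _ (fun y hy => C.D.value_K hχ hy) θ hθ i hi).1

/-- The members carry the norm two. -/
theorem member_norm {θ : C.D.Tb.K →* ℂˣ} (hθ : θ ≠ 1) {i j : Fin 4} (hi : i ≠ 0) (hj : j ≠ 0) :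
    (C.D.R.L.map fun χ => C.D.TF.a i θ χ * C.D.TF.a j θ χ).sum = 2 := by
  rw [List.map_congr_left (g := fun χ => C.D.b θ χ * C.D.b θ χ) fun χ hχ => by
    rw [C.sum_list hθ hi hχ, C.sum_list hθ hj hχ, Ctx.b]
    linear_combination (-(C.D.TF.a 1 θ χ * C.D.TF.a 1 θ χ)) * C.D.R.sg_sq χ, C.S.sum]
  obtain ⟨h1, h5, h6, h7, h8, h3, h4⟩ := C.pattern_all hθ
  rw [h1, h5, h6, h7, h8, h3, h4, C.S.head.2.2.2 θ hθ]
  norm_num

/-- The three characters outside the members, their degree and coordinate. -/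
theorem outside_one {θ : C.D.Tb.K →* ℂˣ} (hθ : θ ≠ 1) {i : Fin 4} (hi : i ≠ 0) :
    ∃ X ∈ C.D.O, C.D.TF.a i θ X ^ 2 = 1 ∧ (∀ χ ∈ C.D.O, χ ≠ X → C.D.TF.a i θ χ = 0) ∧
      ((Fintype.card F : ℤ) ^ 2 - Fintype.card F + 1) ∣ (deg (X : G → ℂ) : ℤ) ∧
      coord t E X (C.D.Tb.phi θ) ≠ 0 := by
  classical
  have hone : ∑ χ ∈ C.D.O, C.D.TF.a i θ χ ^ 2 = 1 := by
    have h := C.D.TF.norm θ hθ i hi
    rw [C.D.sum_split, List.map_congr_left (g := fun χ => C.D.TF.a i θ χ * C.D.TF.a i θ χ) fun χ _ => pow_two _,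
      C.member_norm hθ hi hi] at h
    omega
  obtain ⟨X, hX, hX1, hX0⟩ := Star.unit_vec hone
  refine ⟨X, hX, hX1, hX0, ?_, fun h0 => ?_⟩
  · have h := C.D.TF.at_one θ hθ i
    rw [C.D.sum_split, Finset.sum_eq_single X (fun χ hχ hne => by rw [hX0 χ hχ hne]; simp)
      (fun h => absurd hX h)] at h
    rw [List.map_congr_left (g := fun χ => ((C.D.b θ χ * C.D.d χ : ℤ) : ℂ)) fun χ hχ => by
      rw [C.sum_list hθ hi hχ, C.D.deg_c, Ctx.b]; push_cast; ring, C.S.sum, irr_apply_one_eq_deg] at h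
    obtain ⟨h1, h5, h6, h7, h8, h3, h4⟩ := C.pattern_all hθ
    rw [h1, h5, h6, h7, h8, h3, h4, C.S.head.2.2.2 θ hθ, C.d_e1, C.d_c3] at h
    have hz : C.D.TF.a i θ X * (deg (X : G → ℂ) : ℤ) =
        ((Fintype.card F : ℤ) ^ 2 - Fintype.card F + 1) * (1 - Fintype.card F) := by
      apply Int.cast_injective (α := ℂ)
      push_cast at h ⊢
      linear_combination h
    refine ⟨C.D.TF.a i θ X * (1 - Fintype.card F), ?_⟩
    linear_combination (C.D.TF.a i θ X) * hz + (-(deg (X : G → ℂ) : ℤ)) * hX1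
  · refine C.D.TF.phi_ne θ hθ i hi ?_
    refine Finset.sum_eq_zero fun χ _ => ?_
    by_cases hχ : χ ∈ C.D.R.L
    · rw [C.D.phi_zero hχ hθ, mul_zero]
    · by_cases e : χ = X
      · rw [e, h0, mul_zero]
      · rw [hX0 χ (C.D.mem_O.2 hχ) e, Int.cast_zero, zero_mul]

/-- The characters with a nonzero coordinate at `phi θ` vanish. -/
theorem phi_vanish {θ : C.D.Tb.K →* ℂˣ} (hθ : θ ≠ 1) {p : ℕ} (hp : p.Prime)
    (hpd : p ∣ Fintype.card F ^ 2 - Fintype.card F + 1) {g : G} (hg : orderOf g = p) (hgo : Odd (orderOf g))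
    {χ : IrrCharacter G} (hχ : coord t E χ (C.D.Tb.phi θ) ≠ 0) : (χ : G → ℂ) g = 0 := by
  classical
  obtain ⟨hsp, hn, -⟩ := C.D.Tb.phi_spec θ hθ
  choose c hc using C.D.SF.coord_int (C.D.Tb.phi θ) hsp
  have hnorm : ∑ χ, c χ ^ 2 = 4 := by
    apply Int.cast_injective (α := ℂ)
    push_cast
    have h := C.D.SF.isometry _ _ hsp hsp
    rw [hn] at h
    rw [show (4 : ℂ) = 2 * 2 by norm_num, ← h]
    exact Finset.sum_congr rfl fun χ _ => by rw [hc, map_intCast, pow_two]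
  obtain ⟨X₁, hO1, a1, z1, d1, n1⟩ := C.outside_one hθ (i := 1) (by decide)
  obtain ⟨X₂, hO2, a2, z2, d2, n2⟩ := C.outside_one hθ (i := 2) (by decide)
  obtain ⟨X₃, hO3, a3, z3, d3, n3⟩ := C.outside_one hθ (i := 3) (by decide)
  have hne : ∀ {i j : Fin 4} {X Y : IrrCharacter G}, i ≠ 0 → j ≠ 0 → i ≠ j → X ∈ C.D.O →
      C.D.TF.a i θ X ^ 2 = 1 → C.D.TF.a j θ Y ^ 2 = 1 → (∀ χ ∈ C.D.O, χ ≠ X → C.D.TF.a i θ χ = 0) → X ≠ Y := by
    intro i j X Y hi hj hij hX ai aj zi e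
    subst e
    have h := C.inner_four hθ hi hj hij
    rw [C.D.sum_split, C.member_norm hθ hi hj, Finset.sum_eq_single X
      (fun χ hχ hne => by rw [zi χ hχ hne, zero_mul]) (fun h => absurd hX h)] at h
    rcases sq_eq_one_iff.1 ai with e | e <;> rcases sq_eq_one_iff.1 aj with e' | e' <;> rw [e, e'] at h <;> omega
  have h12 : X₁ ≠ X₂ := hne (i := 1) (j := 2) (by decide) (by decide) (by decide) hO1 a1 a2 z1
  have h13 : X₁ ≠ X₃ := hne (i := 1) (j := 3) (by decide) (by decide) (by decide) hO1 a1 a3 z1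
  have h23 : X₂ ≠ X₃ := hne (i := 2) (j := 3) (by decide) (by decide) (by decide) hO2 a2 a3 z2
  set T : Finset (IrrCharacter G) := {X₁, X₂, X₃} with hT
  have hge : ∀ {X : IrrCharacter G}, coord t E X (C.D.Tb.phi θ) ≠ 0 → 1 ≤ c X ^ 2 := fun {X} h => by
    have : c X ≠ 0 := fun e => h (by rw [hc, e, Int.cast_zero])
    have := sq_pos_of_ne_zero this
    omega
  have hsum := Finset.sum_add_sum_compl T fun χ => c χ ^ 2
  rw [hnorm, hT, Finset.sum_insert (by simp [h12, h13]), Finset.sum_pair h23] at hsum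
  have g1 := hge n1
  have g2 := hge n2
  have g3 := hge n3
  have hvanT : ∀ X ∈ T, (X : G → ℂ) g = 0 := fun X hX => by
    rw [hT, Finset.mem_insert, Finset.mem_insert, Finset.mem_singleton] at hX
    rcases hX with rfl | rfl | rfl
    exacts [C.vanish hp hpd hg d1, C.vanish hp hpd hg d2, C.vanish hp hpd hg d3]
  by_cases hχT : χ ∈ T
  · exact hvanT χ hχT
  have hχ1 := hge hχ
  have hrest : ∀ W ∈ Tᶜ, W ≠ χ → c W = 0 := fun W hW hne => by
    have hle := Finset.sum_le_sum_of_subset_of_nonneg (f := fun χ => c χ ^ 2) (s := {W, χ}) (t := Tᶜ)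
      (by
        intro x hx
        rw [Finset.mem_insert, Finset.mem_singleton] at hx
        rcases hx with rfl | rfl
        exacts [hW, Finset.mem_compl.2 hχT])
      fun x _ _ => sq_nonneg _
    rw [Finset.sum_pair hne] at hle
    have : c W ^ 2 = 0 := le_antisymm (by rw [hT] at hle; omega) (sq_nonneg _)
    exact pow_eq_zero_iff two_ne_zero |>.1 this
  have h := C.D.SF.odd_sum _ hsp g hgo
  rw [Finset.sum_eq_single χ (fun W _ hne => ?_) (fun h => absurd (Finset.mem_univ _) h)] at h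
  · exact (mul_eq_zero.1 h).resolve_left hχ
  · by_cases hW : W ∈ T
    · rw [hvanT W hW, mul_zero]
    · rw [hc, hrest W (Finset.mem_compl.2 hW) hne, Int.cast_zero, zero_mul]

end RCtx

end Cfsg.Lib.Ree.Real
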