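import Cfsg.Agent.ReeAbelian.Local
import Cfsg.Agent.Ree.Torus.Func.Embed

/-!
The group `⟨t⟩ × T`, `T` the split torus of `E`: centralisers, fusion, inverting involutions.
-/

set_option autoImplicit false
set_option linter.unusedSectionVars false
set_option linter.style.haveILetI false

namespace Cfsg.Lib.Ree.Real

open Subgroup Cfsg.Lib.ReeAb

universe u

variable {G : Type u} [Group G]

/-- The split torus. -/
structure Split (t : G) (E : Subgroup G) (q : ℕ) where
  T : Subgroup G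
  le : T ≤ E
  card : Nat.card T = (q - 1) / 2
  comm : ∀ a ∈ T, ∀ b ∈ T, Commute a b
  cyc : IsCyclic T
  cen : ∀ a ∈ T, a ≠ 1 → ∀ x ∈ E, Commute x a → x ∈ T
  w : G
  w_mem : w ∈ E
  w_ord : orderOf w = 2
  inv : ∀ a ∈ T, w * a * w⁻¹ = a⁻¹

variable [Finite G] {t : G} {E : Subgroup G} {q : ℕ}

theorem exists_split (B : Base t E q) : Nonempty (Split t E q) := by
  haveI : Fact (Nat.Prime 3) := ⟨Nat.prime_three⟩
  obtain ⟨P⟩ := (inferInstance : Nonempty (Sylow 3 E))
  obtain ⟨T, -, hcyc, hT, hTc, w, hw, hwT⟩ := B.psl.torus P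
  haveI := hcyc
  refine ⟨⟨T.map E.subtype, map_subtype_le _, by rw [card_map_of_injective E.subtype_injective, hT], ?_, ?_, ?_,
    w, w.2, by rw [orderOf_coe]; exact hw, ?_⟩⟩
  · rintro _ ⟨a, ha, rfl⟩ _ ⟨b, hb, rfl⟩
    exact (show Commute a b from congrArg Subtype.val (mul_comm' (⟨a, ha⟩ : T) ⟨b, hb⟩)).map E.subtype
  · exact isCyclic_of_surjective (E.subtype.subgroupMap T) (E.subtype.subgroupMap_surjective T)
  · rintro _ ⟨a, ha, rfl⟩ ha1 x hx hxa
    refine ⟨⟨x, hx⟩, (hTc a ha fun h => ha1 (by rw [h]; rfl)).le (mem_centralizer_singleton_iff.2 ?_), rfl⟩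
    exact Subtype.ext hxa.eq
  · rintro _ ⟨a, ha, rfl⟩
    exact congrArg Subtype.val (hwT a ha)

namespace Split

variable (B : Base t E q) (P : Split t E q)
include B

theorem tt : t * t = 1 := B.tt

theorem ww : P.w * P.w = 1 := sq_one_of_order P.w_ord

theorem T_odd {a : G} (ha : a ∈ P.T) : Odd (orderOf a) := by
  obtain ⟨A, C, D, hA, -, -, -, hAo, -⟩ := B.parts
  refine hAo.of_dvd_nat ?_
  rw [show A = Nat.card P.T by rw [P.card]; omega]
  exact P.T.orderOf_dvd_natCard ha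

theorem t_T {a : G} (ha : a ∈ P.T) : Commute t a := B.comm a (P.le ha)

theorem t_w : Commute t P.w := B.comm _ P.w_mem

/-- The homomorphism sending `-1` to `t`. -/
def homT : ℤˣ →* G where
  toFun a := if a = 1 then 1 else t
  map_one' := by simp
  map_mul' a b := by
    rcases Int.units_eq_one_or a with rfl | rfl <;> rcases Int.units_eq_one_or b with rfl | rfl <;> simp [B.tt]

theorem homT_cases (a : ℤˣ) : homT B a = 1 ∨ homT B a = t := by
  rcases Int.units_eq_one_or a with rfl | rfl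
  · exact Or.inl (map_one _)
  · exact Or.inr rfl

/-- The parametrisation of `⟨t⟩ × T`. -/
def emb : ℤˣ × P.T →* G :=
  MonoidHom.noncommCoprod (homT B) P.T.subtype fun a b => by
    rcases homT_cases B a with h | h <;> rw [h]
    exacts [Commute.one_left _, P.t_T B b.2]

theorem emb_apply (z : ℤˣ × P.T) : P.emb B z = homT B z.1 * z.2 := rfl

theorem emb_T (a : P.T) : P.emb B (1, a) = a := by rw [emb_apply, map_one, one_mul]

theorem emb_t : P.emb B (-1, 1) = t := by
  rw [emb_apply]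
  show homT B (-1) * ((1 : P.T) : G) = t
  rw [OneMemClass.coe_one, mul_one]
  rfl

theorem emb_comm (z z' : ℤˣ × P.T) : Commute (P.emb B z) (P.emb B z') := by
  refine Commute.map ?_ (P.emb B)
  exact Prod.ext (mul_comm _ _) (Subtype.ext (P.comm _ z.2.2 _ z'.2.2))

theorem emb_sq (z : ℤˣ × P.T) : P.emb B z * P.emb B z = (z.2 : G) * z.2 := by
  rw [← map_mul, emb_apply]
  show homT B (z.1 * z.1) * _ = _
  rw [Int.units_mul_self, map_one, one_mul]
  rfl

theorem sq_ne {a : P.T} (ha : a ≠ 1) : (a : G) * a ≠ 1 := fun h =>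
  ha (Subtype.ext (eq_one_of_odd_sq (P.T_odd B a.2) h))

theorem emb_injective : Function.Injective (P.emb B) := by
  rw [injective_iff_map_eq_one]
  rintro ⟨a, b⟩ h
  rw [emb_apply] at h
  rcases Int.units_eq_one_or a with rfl | rfl
  · rw [map_one, one_mul] at h
    exact Prod.ext rfl (Subtype.ext h)
  · exfalso
    change t * (b : G) = 1 at h
    exact B.disj (by rw [eq_inv_of_mul_eq_one_left h]; exact inv_mem (P.le b.2))

theorem mem_T_of_odd {z : ℤˣ × P.T} (h : Odd (orderOf (P.emb B z))) : P.emb B z ∈ P.T := by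
  rw [orderOf_injective _ (P.emb_injective B)] at h
  have h1 : z.1 ^ orderOf z = 1 := congrArg Prod.fst (pow_orderOf_eq_one z)
  obtain ⟨k, hk⟩ := h
  rw [hk, pow_succ, pow_mul, pow_two, Int.units_mul_self, one_pow, one_mul] at h1
  rw [emb_apply, h1, map_one, one_mul]
  exact z.2.2

theorem w_conj (z : ℤˣ × P.T) : P.w * P.emb B z * P.w⁻¹ = (P.emb B z)⁻¹ := by
  rw [← map_inv, emb_apply, emb_apply]
  show P.w * (homT B z.1 * z.2) * P.w⁻¹ = homT B z.1⁻¹ * ((z.2⁻¹ : P.T) : G)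
  rw [Int.units_inv_eq_self, InvMemClass.coe_inv, ← P.inv _ z.2.2]
  rcases homT_cases B z.1 with h | h <;> rw [h]
  · simp [mul_assoc]
  · rw [← mul_assoc, (P.t_w B).symm.eq]
    simp [mul_assoc]

theorem card_X : Nat.card (ℤˣ × P.T) = 2 * ((q - 1) / 2) := by
  rw [Nat.card_prod, P.card, Nat.card_eq_fintype_card]
  simp

/-- The centraliser of a nontrivial element of `T`. -/
theorem cen_T {a : G} (ha : a ∈ P.T) (ha1 : a ≠ 1) {x : G} (hx : Commute x a) : ∃ z, P.emb B z = x := by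
  classical
  obtain ⟨r, hr, hrd⟩ := Nat.exists_prime_and_dvd (mt orderOf_eq_one_iff.1 ha1)
  haveI := Fact.mk hr
  set a' := a ^ (orderOf a / r) with ha'
  have ha'o : orderOf a' = r := orderOf_pow_orderOf_div (orderOf_pos a).ne' hrd
  have ha'T : a' ∈ P.T := pow_mem ha _
  have hrA : r ∣ (q - 1) / 2 := P.card ▸ hrd.trans (P.T.orderOf_dvd_natCard ha)
  obtain ⟨A, C', D, hA, hC', hD, hG, hAo, hCo, hDo, hA3, hC3, hD3, hAC, -⟩ := B.parts
  have hrA' : r ∣ A := by rwa [show A = (q - 1) / 2 by omega]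
  set Cn := centralizer ({a'} : Set G) with hCn
  have hd := B.cen_A hr hrA ha'o
  rw [show (q - 1) / 2 = A by omega, show (q + 1) / 4 = C' by omega, ← hCn] at hd
  have hcop : Nat.Coprime (Nat.card Cn) C' := by
    refine Nat.coprime_of_dvd fun r' hr' h1 h2 => ?_
    haveI := Fact.mk hr'
    obtain ⟨y, hy⟩ := exists_prime_orderOf_dvd_card' (G := Cn) r' h1
    rw [← orderOf_coe] at hy
    have h := B.cen_C hr' (by rwa [show (q + 1) / 4 = C' by omega]) hy
    have hmem : a' ∈ centralizer ({(y : G)} : Set G) :=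
      mem_centralizer_singleton_iff.2 (show Commute a' (y : G) from (show Commute (y : G) a' from
        mem_centralizer_singleton_iff.1 y.2).symm).eq
    have h' : r ∣ 120 * (q + 1) := (ha'o ▸ Subgroup.orderOf_dvd_natCard _ hmem).trans h
    have hr2 : r ≠ 2 := fun e => Nat.not_even_iff_odd.2 hAo (even_iff_two_dvd.2 (e ▸ hrA'))
    have hr5 : r ≠ 5 := fun e => by
      subst e
      obtain ⟨m, -, hm⟩ := B.q_eq
      have h5 : 5 ∣ q - 1 := hA ▸ hrA'.mul_left 2
      have : q % 5 = 2 ∨ q % 5 = 3 := by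
        rw [hm, pow_succ, pow_mul, Nat.mul_mod, Nat.pow_mod]
        norm_num
        rcases Nat.even_or_odd' m with ⟨j, rfl | rfl⟩ <;> simp [pow_add, pow_mul, Nat.mul_mod, Nat.pow_mod]
      omega
    rcases hr.dvd_mul.1 h' with h'' | h''
    · rcases hr.dvd_mul.1 (show r ∣ 2 ^ 3 * (3 * 5) from h'') with k | k
      · exact hr2 ((Nat.prime_dvd_prime_iff_eq hr Nat.prime_two).1 (hr.dvd_of_dvd_pow k))
      · rcases hr.dvd_mul.1 k with j | j
        · exact hA3 ((Nat.prime_dvd_prime_iff_eq hr Nat.prime_three).1 j ▸ hrA')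
        · exact hr5 ((Nat.prime_dvd_prime_iff_eq hr (by norm_num)).1 j)
    · have := Nat.dvd_sub h'' (hA ▸ hrA'.mul_left 2 : r ∣ q - 1)
      rw [show q + 1 - (q - 1) = 2 by have := B.q_ge; omega] at this
      exact hr2 ((Nat.prime_dvd_prime_iff_eq hr Nat.prime_two).1 this)
  have hdd : Nat.card Cn ∣ 2 * A := hcop.dvd_of_dvd_mul_right hd
  set H := (P.emb B).range with hH
  have hle : H ≤ Cn := by
    rintro _ ⟨z, rfl⟩
    refine mem_centralizer_singleton_iff.2 ?_
    have := P.emb_comm B z (1, ⟨a', ha'T⟩)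
    rwa [emb_T] at this
  have hHc : Nat.card H = 2 * A := by
    rw [hH, ← Nat.card_congr (MonoidHom.ofInjective (P.emb_injective B)).toEquiv, P.card_X B]
    omega
  have heq : H = Cn := Subgroup.eq_of_le_of_card_ge hle
    (hHc ▸ Nat.le_of_dvd (hHc ▸ Nat.card_pos) hdd)
  have hxC : x ∈ H := heq ▸ mem_centralizer_singleton_iff.2 (hx.pow_right _).eq
  exact hxC

/-- An element of `C(t) ∩ E` normalising `T` and centralising `w`. -/
theorem norm_small {d : G} (hdE : d ∈ E) (hdw : Commute d P.w) (hdn : ∀ b ∈ P.T, d * b * d⁻¹ ∈ P.T) :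
    d = 1 ∨ d = P.w := by
  classical
  obtain ⟨A, C', D, hA, hC', -, -, hAo, -⟩ := B.parts
  have hcw := B.psl.cen_invol ⟨P.w, P.w_mem⟩ (by rw [Subgroup.orderOf_mk]; exact P.w_ord)
  have hdord : orderOf d ∣ q + 1 := by
    rw [← hcw]
    have h := Subgroup.orderOf_dvd_natCard (centralizer ({(⟨P.w, P.w_mem⟩ : E)} : Set E))
      (x := ⟨d, hdE⟩) (mem_centralizer_singleton_iff.2 (Subtype.ext hdw.eq))
    rwa [Subgroup.orderOf_mk] at h
  have htwo : ∀ r : ℕ, r.Prime → r ∣ orderOf d → r = 2 := by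
    intro r hr hrd
    by_contra hr2
    haveI := Fact.mk hr
    set y := d ^ (orderOf d / r) with hy
    have hyo : orderOf y = r := orderOf_pow_orderOf_div (orderOf_pos d).ne' hrd
    have hyn : y ∈ normalizer (P.T : Set G) := by
      have hd' : d ∈ normalizer (P.T : Set G) :=
        mem_normalizer_iff_map_conj_eq.2 (Subgroup.eq_of_le_of_card_ge
          (by rintro _ ⟨b, hb, rfl⟩; exact hdn b hb)
          (by rw [card_map_of_injective (MulAut.conj d).injective]))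
      exact pow_mem hd' _
    have h := card_modEq_fixed hyo hyn
    have hone : P.T ⊓ centralizer ({y} : Set G) = ⊥ := by
      refine eq_bot_iff.2 fun b hb => ?_
      obtain ⟨hb, hby⟩ := hb
      rw [mem_bot]
      by_contra hb1
      have hby' : Commute y b := (show Commute b y from mem_centralizer_singleton_iff.1 hby).symm
      obtain ⟨z, hz⟩ := P.cen_T B hb hb1 hby'
      have hyT : y ∈ P.T := hz ▸ P.mem_T_of_odd B (by rw [hz, hyo]; exact hr.odd_of_ne_two hr2)
      have h1 := P.inv y hyT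
      have hyw : Commute y P.w := hdw.pow_left _
      rw [hyw.symm.eq, mul_inv_cancel_right] at h1
      have h2 : y * y = 1 := by nth_rw 2 [h1]; exact mul_inv_cancel y
      exact ne_one_of_order hr.ne_one hyo (eq_one_of_odd_sq (P.T_odd B hyT) h2)
    rw [hone, card_bot, P.card] at h
    have h1 : (r : ℤ) ∣ ((1 : ℕ) : ℤ) - (((q - 1) / 2 : ℕ) : ℤ) := Nat.modEq_iff_dvd.1 h
    rw [show (q - 1) / 2 = A by omega, Nat.cast_one] at h1
    have h2 : (r : ℤ) ∣ ((q : ℤ) + 1) := by exact_mod_cast Int.natCast_dvd_natCast.2 (hrd.trans hdord)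
    have h3 : (r : ℤ) ∣ 4 := by
      have := (h1.mul_left 2).add h2
      rwa [show (q : ℤ) + 1 = 2 * A + 2 by have := B.q_ge; omega, show 2 * (1 - (A : ℤ)) + (2 * A + 2) = 4 by ring] at this
    exact hr2 ((Nat.prime_dvd_prime_iff_eq hr Nat.prime_two).1
      (hr.dvd_of_dvd_pow (show r ∣ 2 ^ 2 from Int.natCast_dvd_natCast.1 h3)))
  have hdd : d * d = 1 := by
    refine B.two_sq d ⟨(orderOf d).factorization 2, ?_⟩
    have h := Nat.eq_prime_pow_of_unique_prime_dvd (p := 2) (orderOf_pos d).ne' fun {r} hr hrd => htwo r hr hrd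
    rw [h]
    congr 1
    rw [Nat.Prime.factorization_pow Nat.prime_two]
    simp
  have hdi : d⁻¹ = d := inv_eq_of_mul_eq_one_right hdd
  by_cases hfix : ∃ b ∈ P.T, b ≠ 1 ∧ Commute d b
  · obtain ⟨b, hb, hb1, hdb⟩ := hfix
    exact Or.inl (eq_one_of_odd_sq (P.T_odd B (P.cen b hb hb1 d hdE hdb)) hdd)
  push Not at hfix
  right
  have hinv : ∀ b ∈ P.T, d * b * d⁻¹ = b⁻¹ := fun b hb => by
    have hb' := hdn b hb
    have hmem : b * (d * b * d⁻¹) ∈ P.T := mul_mem hb hb'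
    by_cases h1 : b * (d * b * d⁻¹) = 1
    · exact eq_inv_of_mul_eq_one_right h1
    · refine absurd ?_ (hfix _ hmem h1)
      show d * (b * (d * b * d⁻¹)) = b * (d * b * d⁻¹) * d
      rw [hdi] at hb' ⊢
      calc d * (b * (d * b * d)) = d * b * d * b * d := by simp only [mul_assoc]
        _ = b * (d * b * d) * d := by rw [(P.comm _ hb' _ hb).eq]
  have hA1 : 1 < Nat.card P.T := by rw [P.card]; have := B.q_ge; omega
  haveI := Finite.one_lt_card_iff_nontrivial.1 hA1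
  obtain ⟨⟨b, hb⟩, hb1⟩ := exists_ne (1 : P.T)
  have hb1' : b ≠ 1 := fun e => hb1 (Subtype.ext e)
  have hdwb : Commute (d * P.w) b := by
    show d * P.w * b = b * (d * P.w)
    have h1 := mul_inv_eq_iff_eq_mul.1 (hinv b⁻¹ (inv_mem hb))
    rw [inv_inv] at h1
    rw [mul_assoc, mul_inv_eq_iff_eq_mul.1 (P.inv b hb), ← mul_assoc, h1, mul_assoc]
  have hmemT := P.cen b hb hb1' (d * P.w) (mul_mem hdE P.w_mem) hdwb
  have h2 := eq_one_of_odd_sq (P.T_odd B hmemT) (by
    rw [hdw.symm.mul_mul_mul_comm, hdd, P.ww B, one_mul])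
  rw [eq_inv_of_mul_eq_one_left h2, inv_eq_of_mul_eq_one_right (P.ww B)]

/-- An element of `E` normalising `T` lies in `T ∪ w T`. -/
theorem norm_cases {e : G} (heE : e ∈ E) (hen : ∀ b ∈ P.T, e * b * e⁻¹ ∈ P.T) :
    e ∈ P.T ∨ ∃ b ∈ P.T, e = P.w * b := by
  classical
  set u := e * P.w * e⁻¹ with hu
  have huE : u ∈ E := mul_mem (mul_mem heE P.w_mem) (inv_mem heE)
  have hsurj : ∀ b ∈ P.T, ∃ c ∈ P.T, e * c * e⁻¹ = b := fun b hb => by
    have h : P.T.map (MulAut.conj e).toMonoidHom = P.T := Subgroup.eq_of_le_of_card_ge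
      (by rintro _ ⟨c, hc, rfl⟩; exact hen c hc) (by rw [card_map_of_injective (MulAut.conj e).injective])
    rw [← h] at hb
    obtain ⟨c, hc, hcb⟩ := hb
    exact ⟨c, hc, hcb⟩
  have huinv : ∀ b ∈ P.T, u * b * u⁻¹ = b⁻¹ := fun b hb => by
    obtain ⟨c, hc, rfl⟩ := hsurj b hb
    rw [hu, show e * P.w * e⁻¹ * (e * c * e⁻¹) * (e * P.w * e⁻¹)⁻¹ = e * (P.w * c * P.w⁻¹) * e⁻¹ by group,
      P.inv c hc]
    group
  have hA1 : 1 < Nat.card P.T := by rw [P.card]; have := B.q_ge; omega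
  haveI := Finite.one_lt_card_iff_nontrivial.1 hA1
  obtain ⟨⟨b, hb⟩, hb1⟩ := exists_ne (1 : P.T)
  have hb1' : b ≠ 1 := fun e' => hb1 (Subtype.ext e')
  have huw : Commute (u * P.w) b := by
    show u * P.w * b = b * (u * P.w)
    have h1 := mul_inv_eq_iff_eq_mul.1 (huinv b⁻¹ (inv_mem hb))
    rw [inv_inv] at h1
    rw [mul_assoc, mul_inv_eq_iff_eq_mul.1 (P.inv b hb), ← mul_assoc, h1, mul_assoc]
  have hc := P.cen b hb hb1' _ (mul_mem huE P.w_mem) huw
  set c := u * P.w with hc'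
  obtain ⟨j, hj⟩ := exists_sq_pow (P.T_odd B hc)
  set c₀ := c ^ j with hc₀
  have hc₀T : c₀ ∈ P.T := pow_mem hc _
  have hcc : c₀ * c₀ = c := by rw [hc₀, ← (Commute.refl c).mul_pow, ← hj]
  have hu2 : c₀ * P.w * c₀⁻¹ = u := by
    have h1 : P.w * c₀⁻¹ = c₀ * P.w := by
      have h2 := P.inv c₀⁻¹ (inv_mem hc₀T)
      rw [inv_inv, mul_inv_eq_iff_eq_mul] at h2
      exact h2
    rw [mul_assoc, h1, ← mul_assoc, hcc, hc', mul_assoc, P.ww B, mul_one]
  set d := c₀⁻¹ * e with hd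
  have hdw : Commute d P.w := by
    show d * P.w = P.w * d
    calc d * P.w = c₀⁻¹ * (u * e) := by rw [hd, hu]; group
      _ = c₀⁻¹ * (c₀ * P.w * c₀⁻¹ * e) := by rw [hu2]
      _ = P.w * d := by rw [hd]; group
  have hdn : ∀ b ∈ P.T, d * b * d⁻¹ ∈ P.T := fun b hb => by
    rw [show d * b * d⁻¹ = c₀⁻¹ * (e * b * e⁻¹) * c₀⁻¹⁻¹ by rw [hd]; group]
    exact mul_mem (mul_mem (inv_mem hc₀T) (hen b hb)) (inv_mem (inv_mem hc₀T))
  rcases P.norm_small B (mul_mem (inv_mem (P.le hc₀T)) heE) hdw hdn with h | h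
  · left
    rw [show e = c₀ by rw [← mul_inv_cancel_left c₀ e, h, mul_one]]
    exact hc₀T
  · refine Or.inr ⟨c₀⁻¹, inv_mem hc₀T, ?_⟩
    have h2 := P.inv c₀⁻¹ (inv_mem hc₀T)
    rw [inv_inv, mul_inv_eq_iff_eq_mul] at h2
    rw [h2, ← h]
    group

/-- The fusion in `⟨t⟩ × T`. -/
theorem conj_cases {z z' : ℤˣ × P.T} (hz : z.2 ≠ 1) {c : G} (hc : c * P.emb B z * c⁻¹ = P.emb B z') :
    ∃ (b : Bool) (y : ℤˣ × P.T), c = (if b then P.w else 1) * P.emb B y := by
  have h2 : c * ((z.2 : G) * z.2) * c⁻¹ = (z'.2 : G) * z'.2 := by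
    rw [← P.emb_sq B, ← P.emb_sq B, ← hc]; group
  have hz' : z'.2 ≠ 1 := fun e => P.sq_ne B hz (by
    rw [e] at h2
    simpa [mul_inv_eq_one] using h2)
  have hconjT : ∀ x ∈ P.T, c * x * c⁻¹ ∈ P.T := fun x hx => by
    have hcomm : Commute (c * x * c⁻¹) ((z'.2 : G) * z'.2) := by
      rw [← h2]
      exact ((P.comm x hx _ z.2.2).mul_right (P.comm x hx _ z.2.2)).map (MulAut.conj c).toMonoidHom
    obtain ⟨y, hy⟩ := P.cen_T B (mul_mem z'.2.2 z'.2.2) (P.sq_ne B hz') hcomm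
    rw [← hy]
    refine P.mem_T_of_odd B ?_
    rw [hy, show orderOf (c * x * c⁻¹) = orderOf x from (MulAut.conj c).orderOf_eq x]
    exact P.T_odd B hx
  have hct : Commute c t := by
    have hcomm : Commute (c * t * c⁻¹) ((z'.2 : G) * z'.2) := by
      rw [← h2]
      exact ((P.t_T B z.2.2).mul_right (P.t_T B z.2.2)).map (MulAut.conj c).toMonoidHom
    obtain ⟨y, hy⟩ := P.cen_T B (mul_mem z'.2.2 z'.2.2) (P.sq_ne B hz') hcomm
    have hsq : P.emb B y * P.emb B y = 1 := by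
      rw [hy, show c * t * c⁻¹ * (c * t * c⁻¹) = c * (t * t) * c⁻¹ by group, B.tt]
      group
    rw [P.emb_sq B] at hsq
    have hy1 : y.2 = 1 := by_contra fun hne => P.sq_ne B hne hsq
    rw [emb_apply, hy1, OneMemClass.coe_one, mul_one] at hy
    rcases homT_cases B y.1 with h | h <;> rw [h] at hy
    · exact absurd (conj_eq_one_iff.1 hy.symm) B.t_ne
    · exact mul_inv_eq_iff_eq_mul.1 hy.symm
  obtain ⟨e, heE, hce⟩ := B.split c hct
  have hen : ∀ x ∈ P.T, e * x * e⁻¹ ∈ P.T := fun x hx => by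
    rcases hce with h | h
    · exact h ▸ hconjT x hx
    · have h3 := hconjT x hx
      rwa [h, show t * e * x * (t * e)⁻¹ = t * (e * x * e⁻¹) * t⁻¹ by group,
        (B.comm _ (mul_mem (mul_mem heE (P.le hx)) (inv_mem heE))).eq, mul_inv_cancel_right] at h3
  rcases P.norm_cases B heE hen with h | ⟨b, hb, rfl⟩
  · rcases hce with h' | h'
    · exact ⟨false, (1, ⟨e, h⟩), by rw [h', emb_T]; simp⟩
    · exact ⟨false, (-1, ⟨e, h⟩), by rw [h', emb_apply]; simp [homT]⟩
  · rcases hce with h' | h'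
    · exact ⟨true, (1, ⟨b, hb⟩), by rw [h', emb_T]; simp⟩
    · refine ⟨true, (-1, ⟨b, hb⟩), ?_⟩
      rw [h', emb_apply, ← mul_assoc, (P.t_w B).eq, mul_assoc]
      simp [homT]

/-- The action of a coset representative. -/
def flip (b : Bool) (z : ℤˣ × P.T) : ℤˣ × P.T := if b then z⁻¹ else z

theorem rep_conj (b : Bool) (y z : ℤˣ × P.T) :
    ((if b then P.w else 1) * P.emb B y) * P.emb B z * ((if b then P.w else 1) * P.emb B y)⁻¹ =
      P.emb B (P.flip b z) := by
  rw [show ((if b then P.w else 1) * P.emb B y) * P.emb B z * ((if b then P.w else 1) * P.emb B y)⁻¹ =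
    (if b then P.w else 1) * (P.emb B y * P.emb B z * (P.emb B y)⁻¹) * (if b then P.w else 1)⁻¹ by group,
    (P.emb_comm B y z).eq, mul_inv_cancel_right]
  cases b
  · simp [flip]
  · simp only [flip, if_true, map_inv]
    exact P.w_conj B z

theorem rep_inj {b b' : Bool} {y y' : ℤˣ × P.T}
    (h : (if b then P.w else 1) * P.emb B y = (if b' then P.w else 1) * P.emb B y') : b = b' ∧ y = y' := by
  have hw : ∀ y : ℤˣ × P.T, P.w ≠ P.emb B y := by
    intro y e
    haveI : Nontrivial P.T := Finite.one_lt_card_iff_nontrivial.1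
      (by rw [P.card]; have := B.q_ge; omega)
    obtain ⟨⟨b, hb⟩, hb1⟩ := exists_ne (1 : P.T)
    have h1 := P.emb_comm B y (1, ⟨b, hb⟩)
    rw [emb_T, ← e] at h1
    have h2 := P.inv b hb
    rw [h1.eq, mul_inv_cancel_right] at h2
    refine P.sq_ne B hb1 ?_
    have h2' : b = b⁻¹ := h2
    show b * b = 1
    nth_rw 2 [h2']
    exact mul_inv_cancel b
  cases b <;> cases b' <;> simp only [Bool.false_eq_true, if_false, if_true, one_mul] at h
  · exact ⟨rfl, P.emb_injective B h⟩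
  · exact absurd (by rw [map_mul, map_inv, h, mul_inv_cancel_right]) (hw (y * y'⁻¹))
  · exact absurd (by rw [map_mul, map_inv, ← h, mul_inv_cancel_right]) (hw (y' * y⁻¹))
  · exact ⟨rfl, P.emb_injective B (mul_left_cancel h)⟩

/-- The conjugating elements. -/
theorem card_conj {z : ℤˣ × P.T} (hz : z.2 ≠ 1) (z' : ℤˣ × P.T) :
    Nat.card {c : G // c * P.emb B z * c⁻¹ = P.emb B z'} =
      Nat.card {b : Bool // P.flip b z = z'} * Nat.card (ℤˣ × P.T) := by
  rw [← Nat.card_prod]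
  refine (Nat.card_congr (Equiv.ofBijective
    (fun p : {b : Bool // P.flip b z = z'} × (ℤˣ × P.T) =>
      (⟨(if p.1.1 then P.w else 1) * P.emb B p.2, by rw [rep_conj, p.1.2]⟩ :
        {c : G // c * P.emb B z * c⁻¹ = P.emb B z'})) ⟨?_, ?_⟩)).symm
  · rintro ⟨⟨b, hb⟩, y⟩ ⟨⟨b', hb'⟩, y'⟩ h
    obtain ⟨rfl, rfl⟩ := P.rep_inj B (congrArg Subtype.val h)
    rfl
  · rintro ⟨c, hc⟩
    obtain ⟨b, y, rfl⟩ := P.conj_cases B hz hc
    rw [rep_conj] at hc
    exact ⟨(⟨b, P.emb_injective B hc⟩, y), rfl⟩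

/-- The involutions inverting an element of `⟨t⟩ × T` outside `⟨t⟩`. -/
theorem card_inverting {z : ℤˣ × P.T} (hz : z.2 ≠ 1) :
    Nat.card {s : G // s * s = 1 ∧ s ≠ 1 ∧ (s * P.emb B z) * (s * P.emb B z) = 1 ∧ s * P.emb B z ≠ 1} =
      Nat.card (ℤˣ × P.T) := by
  have hsq : ∀ y : ℤˣ × P.T, P.w * P.emb B y * (P.w * P.emb B y) = 1 := fun y => by
    have h := P.w_conj B y
    rw [inv_eq_of_mul_eq_one_right (P.ww B)] at h
    rw [show P.w * P.emb B y * (P.w * P.emb B y) = P.w * P.emb B y * P.w * P.emb B y by group, h,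
      inv_mul_cancel]
  have hne : ∀ y : ℤˣ × P.T, P.w * P.emb B y ≠ 1 := fun y h => by
    have := P.rep_inj B (b := true) (b' := false) (y := y) (y' := 1) (by simpa using h)
    exact absurd this.1 (by decide)
  refine (Nat.card_congr (Equiv.ofBijective (fun y : ℤˣ × P.T =>
    (⟨P.w * P.emb B y, hsq y, hne y, by rw [mul_assoc P.w, ← map_mul]; exact hsq _,
      by rw [mul_assoc P.w, ← map_mul]; exact hne _⟩ :
      {s : G // s * s = 1 ∧ s ≠ 1 ∧ (s * P.emb B z) * (s * P.emb B z) = 1 ∧ s * P.emb B z ≠ 1})) ⟨?_, ?_⟩)).symm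
  · intro y y' h
    exact P.emb_injective B (mul_left_cancel (congrArg Subtype.val h))
  · rintro ⟨s, hs, hs1, hsz, hsz1⟩
    have hinv : s * P.emb B z * s⁻¹ = P.emb B z⁻¹ := by
      rw [map_inv]
      refine eq_inv_of_mul_eq_one_left ?_
      rw [inv_eq_of_mul_eq_one_right hs, ← hsz]
      group
    obtain ⟨b, y, hy⟩ := P.conj_cases B hz hinv
    cases b
    · exfalso
      rw [hy] at hinv
      simp only [Bool.false_eq_true, if_false, one_mul] at hinv
      rw [(P.emb_comm B y z).eq, mul_inv_cancel_right] at hinv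
      have h := congrArg Prod.snd (P.emb_injective B hinv)
      refine P.sq_ne B hz ?_
      have h' : (z.2 : G) = (z.2 : G)⁻¹ := congrArg Subtype.val h
      nth_rw 2 [h']
      exact mul_inv_cancel _
    · exact ⟨y, Subtype.ext (by simpa using hy.symm)⟩

end Split

end Cfsg.Lib.Ree.Real
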