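import Cfsg.Agent.Ree.Real.Setup
import Cfsg.Agent.Blocks.RegularCongr

/-!
The first configuration holds at every character of the torus `K`, the fourth member is `±1` on `K`, and the
element of order three fixes no nontrivial element of `K`.
-/

set_option autoImplicit false
set_option linter.unusedSectionVars false
set_option linter.style.haveILetI false

namespace Cfsg.Lib.Ree.Real

open Cfsg Cfsg.Lib.Chars Cfsg.Lib.Blocks
open scoped ComplexConjugate

universe u v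

variable {G : Type u} [Group G] [Fintype G] {t : G} {E : Subgroup G} [Fintype E] {F : Type v} [Field F]
  [Fintype F]

namespace RCtx

variable (C : RCtx t E F)
include C

/-- The pattern of the chosen character at every character. -/
theorem pattern_all {θ : C.D.Tb.K →* ℂˣ} (hθ : θ ≠ 1) :
    C.D.b θ C.S.e1 = -1 ∧ C.D.b θ C.S.c5 = 0 ∧ C.D.b θ C.S.c6 = 0 ∧ C.D.b θ C.S.c7 = 0 ∧ C.D.b θ C.S.c8 = 0 ∧
      C.D.b θ C.S.c3 = 1 ∧ C.D.b θ C.S.c4 = 0 := by
  classical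
  -- from one character to another one
  have same : ∀ θ θ' : C.D.Tb.K →* ℂˣ, θ ≠ 1 → θ' ≠ 1 → θ ≠ θ' → θ ≠ θ'⁻¹ →
      (C.D.b θ' C.S.e1 = -1 ∧ C.D.b θ' C.S.c3 = 1) → C.D.b θ C.S.e1 = -1 ∧ C.D.b θ C.S.c3 = 1 := by
    intro θ θ' hθ hθ' n1 n2 ⟨e1, e3⟩
    obtain ⟨hone, hc⟩ := C.S.classify hθ
    obtain ⟨hone', hc'⟩ := C.S.classify hθ'
    obtain ⟨e5, e6, e7, e8, e4⟩ : C.D.b θ' C.S.c5 = 0 ∧ C.D.b θ' C.S.c6 = 0 ∧ C.D.b θ' C.S.c7 = 0 ∧
        C.D.b θ' C.S.c8 = 0 ∧ C.D.b θ' C.S.c4 = 0 := by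
      rcases hc' with ⟨-, h5, h6, h7, h8, ⟨-, h4⟩ | ⟨h3, -⟩⟩ | ⟨h1, -⟩
      · exact ⟨h5, h6, h7, h8, h4⟩
      · omega
      · omega
    have hin := C.D.inner hθ' hθ n1 n2
    have hle := C.D.inner_le (θ := θ') (θ' := θ)
    rw [hone, hone'] at hle
    rw [C.S.sum] at hin
    simp only [e1, e3, e4, e5, e6, e7, e8, C.S.head.2.2.2 θ' hθ', zero_mul, one_mul, zero_add, add_zero] at hin
    rcases hc with ⟨c1, c5, c6, c7, c8, ⟨c3, c4⟩ | ⟨c3, c4⟩⟩ | ⟨c1, c3, -⟩
    · exact ⟨c1, c3⟩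
    · exfalso
      rw [c1, c3] at hin
      obtain ⟨X, hX, hX1, hX0⟩ := Star.unit_vec hone
      obtain ⟨X', hX', hX1', hX0'⟩ := Star.unit_vec hone'
      have hprod : ∑ χ ∈ C.D.O, C.D.TF.a 1 θ' χ * C.D.TF.a 1 θ χ = C.D.TF.a 1 θ' X * C.D.TF.a 1 θ X := by
        refine Finset.sum_eq_single X (fun χ hχ hne => by rw [hX0 χ hχ hne, mul_zero]) fun h => absurd hX h
      rw [hprod] at hin
      have hXX : X = X' := by
        by_contra hne
        rw [hX0' X hX hne] at hin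
        omega
      subst hXX
      have hsame : C.D.TF.a 1 θ' X = C.D.TF.a 1 θ X := by
        rcases sq_eq_one_iff.1 hX1 with e | e <;> rcases sq_eq_one_iff.1 hX1' with e' | e' <;>
          rw [e, e'] at hin ⊢ <;> omega
      have hd : ∀ μ : C.D.Tb.K →* ℂˣ, μ ≠ 1 → (∀ χ ∈ C.D.O, χ ≠ X → C.D.TF.a 1 μ χ = 0) →
          (C.D.R.L.map fun χ => C.D.b μ χ * C.D.d χ).sum =
            -(C.D.TF.a 1 μ X * (deg (X : G → ℂ) : ℤ)) := by
        intro μ hμ h0
        have h := C.D.TF.at_one μ hμ 1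
        rw [C.D.sum_split, Finset.sum_eq_single X (fun χ hχ hne => by rw [h0 χ hχ hne]; simp)
          (fun h => absurd hX h)] at h
        apply Int.cast_injective (α := ℂ)
        rw [show (((C.D.R.L.map fun χ => C.D.b μ χ * C.D.d χ).sum : ℤ) : ℂ) =
            (C.D.R.L.map fun χ => (C.D.TF.a 1 μ χ : ℂ) * (χ : G → ℂ) 1).sum by
          refine (map_list_sum (Int.castRingHom ℂ) _).trans ?_
          rw [List.map_map]
          refine congrArg List.sum (List.map_congr_left fun χ _ => ?_)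
          simp only [Function.comp_apply, Int.coe_castRingHom, Ctx.b, C.D.deg_c]
          push_cast
          ring]
        push_cast
        rw [← irr_apply_one_eq_deg]
        linear_combination h
      have h1 := hd θ hθ hX0
      have h2 := hd θ' hθ' hX0'
      rw [C.S.sum, c1, c3, c4, c5, c6, c7, c8, C.S.head.2.2.2 θ hθ, C.d_e1, C.d_c4] at h1
      rw [C.S.sum, e1, e3, e4, e5, e6, e7, e8, C.S.head.2.2.2 θ' hθ', C.d_e1, C.d_c3] at h2
      rw [hsame] at h2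
      have hq : (27 : ℤ) ≤ Fintype.card F := by exact_mod_cast C.q_ge
      nlinarith
    · rw [c1, c3] at hin
      omega
  have hgood : C.D.b θ C.S.e1 = -1 ∧ C.D.b θ C.S.c3 = 1 := by
    by_cases e : θ = C.D.TF.θ₀
    · exact e ▸ C.pattern
    by_cases e' : θ = C.D.TF.θ₀⁻¹
    · obtain ⟨θ', hθ', n1, n2⟩ := C.D.exists_third C.D.TF.θ₀
      refine same θ θ' hθ hθ' (e'.trans_ne (Ne.symm n2)) ?_ (same θ' _ hθ' C.D.TF.θ₀_ne n1 n2 C.pattern)
      rw [e']
      exact fun h => n1 (inv_injective h).symm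
    · exact same θ _ hθ C.D.TF.θ₀_ne e e' C.pattern
  rcases (C.S.classify hθ).2 with ⟨h1, h5, h6, h7, h8, ⟨h3, h4⟩ | ⟨h3, -⟩⟩ | ⟨h1, -⟩
  · exact ⟨h1, h5, h6, h7, h8, h3, h4⟩
  · omega
  · omega

/-- The torus functions through the frame. -/
theorem mlt_tr (i : Fin 4) (θ : C.D.Tb.K →* ℂˣ) (χ : IrrCharacter G) :
    C.D.TF.a i θ χ = C.Φ.mlt i (θ.comp C.e.symm.toMonoidHom) χ := by rw [C.a_eq]

theorem section_K {χ : IrrCharacter G} (hχ : χ ∈ C.D.R.L) (y : C.Φ.K) (hy : y ≠ 1) :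
    (χ : G → ℂ) (t * (y : G)) = ((C.D.R.sg χ * C.D.us χ : ℤ) : ℂ) := by
  rw [← C.e_spec y]
  exact C.D.value_K hχ fun h => hy (by simpa using congrArg C.e h)

/-- The fourth member on `K`. -/
theorem c4_K (y : C.Φ.K) (hy : y ≠ 1) : (C.S.c4 : G → ℂ) (y : G) = (C.D.R.sg C.S.c4 : ℂ) := by
  classical
  haveI := C.Φ.cyclic_K
  letI : CommGroup C.Φ.K := IsCyclic.commGroup
  haveI : Finite (C.Φ.K →* ℂˣ) :=
    Finite.of_equiv C.Φ.K (CommGroup.monoidHom_mulEquiv_of_hasEnoughRootsOfUnity C.Φ.K ℂ).some.toEquiv.symm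
  letI : Fintype (C.Φ.K →* ℂˣ) := Fintype.ofFinite _
  set χ := C.S.c4
  set k : ℂ := (Nat.card C.Φ.K : ℂ) with hk
  set s : ℂ := (C.D.R.sg χ : ℂ) with hs
  set S : ℂ := ∑ x : C.Φ.K, (χ : G → ℂ) (x : G) with hS
  have hu : ∀ x : C.Φ.K, x ≠ 1 → (χ : G → ℂ) (t * (x : G)) = s := fun x hx => by
    rw [C.section_K C.S.mem.2.2.2.2.2.2.2 x hx, C.S.uss.2.2.2.2.2.2, mul_one]
  have hP : ∀ θ : C.Φ.K →* ℂˣ, θ ≠ 1 → ∑ x : C.Φ.K, conj (θ x : ℂ) * (χ : G → ℂ) (x : G) = S - k * s := by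
    intro θ hθ
    set μ : C.D.Tb.K →* ℂˣ := θ.comp C.e.toMonoidHom with hμ
    have hμ' : μ.comp C.e.symm.toMonoidHom = θ := MonoidHom.ext fun x => by simp [μ]
    have hμ1 : μ ≠ 1 := fun h => hθ (by rw [← hμ', h]; rfl)
    have hb := (C.pattern_all hμ1).2.2.2.2.2.2
    rw [Ctx.b, mul_eq_zero] at hb
    have h0 : C.D.TF.a 1 μ χ = 0 := hb.resolve_left fun e => by
      have := C.D.R.sg_sq χ
      rw [e] at this
      norm_num at this
    rw [C.mlt_tr, hμ'] at h0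
    have h := C.Φ.mlt_const 1 hθ χ s hu
    rw [h0, if_neg (by decide)] at h
    simp only [Int.cast_zero, mul_zero, one_mul, map_sub, map_one, sub_mul, Finset.sum_sub_distrib] at h
    rw [← hS, ← hk] at h
    linear_combination -h
  have hdual : ∀ x : C.Φ.K, ∑ θ : C.Φ.K →* ℂˣ, (θ y : ℂ) * conj (θ x : ℂ) = if x = y then k else 0 := by
    intro x
    rw [Finset.sum_congr rfl fun (θ : C.Φ.K →* ℂˣ) _ => show (θ y : ℂ) * conj (θ x : ℂ) = (θ (y * x⁻¹) : ℂ) by
      rw [← IsCharacter.conj_inv (isCharacter_linear θ), map_mul, Units.val_mul]]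
    convert sum_dual_point (y * x⁻¹) using 1
    simp only [mul_inv_eq_one, eq_comm (a := x)]
    congr 1
  have hmain : k * (χ : G → ℂ) (y : G) =
      ∑ θ : C.Φ.K →* ℂˣ, (θ y : ℂ) * ∑ x : C.Φ.K, conj (θ x : ℂ) * (χ : G → ℂ) (x : G) := by
    simp only [Finset.mul_sum, ← mul_assoc]
    rw [Finset.sum_comm]
    simp only [← Finset.sum_mul, hdual, ite_mul, zero_mul]
    rw [Finset.sum_ite_eq', if_pos (Finset.mem_univ _)]
  have hall : ∑ θ ∈ Finset.univ.erase (1 : C.Φ.K →* ℂˣ), (θ y : ℂ) = -1 := by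
    have h := sum_dual_point (A := C.Φ.K) y
    rw [if_neg hy, ← Finset.add_sum_erase _ _ (Finset.mem_univ (1 : C.Φ.K →* ℂˣ))] at h
    simp only [MonoidHom.one_apply, Units.val_one] at h
    linear_combination h
  rw [← Finset.add_sum_erase _ _ (Finset.mem_univ (1 : C.Φ.K →* ℂˣ)),
    Finset.sum_congr (s₁ := Finset.univ.erase (1 : C.Φ.K →* ℂˣ)) rfl fun (θ : C.Φ.K →* ℂˣ) hθ =>
      show (θ y : ℂ) * ∑ x : C.Φ.K, conj (θ x : ℂ) * (χ : G → ℂ) (x : G) = (θ y : ℂ) * (S - k * s) by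
        rw [hP θ (Finset.ne_of_mem_erase hθ)], ← Finset.sum_mul, hall] at hmain
  simp only [MonoidHom.one_apply, Units.val_one, map_one, one_mul, ← hS] at hmain
  refine mul_left_cancel₀ (show k ≠ 0 from C.Φ.card_K_ne) ?_
  linear_combination hmain

/-- The element of order three fixes no nontrivial element of `K`. -/
theorem fix_trivial {y : G} (hy : y ∈ C.Φ.K) (hc : Commute C.Φ.m y) : y = 1 := by
  classical
  by_contra hy1
  haveI : Fact (Nat.Prime 3) := ⟨Nat.prime_three⟩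
  have hord : orderOf y ∣ Nat.card C.Φ.K := Subgroup.orderOf_dvd_natCard _ hy
  have hq := C.q_ge
  have hq3 : 3 ∣ Fintype.card F := C.card_eq ▸ dvd_pow_self 3 (by omega)
  have hK : Nat.card C.Φ.K = (Fintype.card F + 1) / 4 := by
    rw [← Nat.card_congr C.e.toEquiv, C.D.Tb.card_K, C.signed]
    have := C.q_mod
    omega
  have h3 : ¬ 3 ∣ orderOf y := fun h => by
    have := h.trans hord
    rw [hK] at this
    have h4 : 3 ∣ Fintype.card F + 1 := this.trans (Nat.div_dvd_of_dvd (by have := C.q_mod; omega))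
    omega
  have hm3 : ∃ k, orderOf C.Φ.m = 3 ^ k := ⟨1, by rw [C.Φ.m_ord, pow_one]⟩
  obtain ⟨M, hM⟩ := exists_isPModular (p := 3) Nat.prime_three
  have hsmall := small_char_sub_regular hM (isCharacter_of_irr C.S.c4.2) (x := C.Φ.m * y) (a := C.Φ.m)
    ⟨y, rfl, hc, hm3, h3⟩
  have h0 : (C.S.c4 : G → ℂ) (C.Φ.m * y) = 0 := by
    have hd : deg (C.S.c4 : G → ℂ) = Fintype.card F ^ 3 := by
      have h1 : |C.D.d C.S.c4| = (deg (C.S.c4 : G → ℂ) : ℤ) := by
        have hs : |C.D.R.sg C.S.c4| = 1 := by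
          rcases Int.mul_eq_one_iff_eq_one_or_neg_one.1 (C.D.R.sg_sq C.S.c4) with ⟨e, -⟩ | ⟨e, -⟩ <;> simp [e]
        rw [Ctx.d, abs_mul, hs, one_mul, Nat.abs_cast]
      rw [C.d_c4, abs_neg, abs_of_nonneg (by positivity)] at h1
      exact_mod_cast h1.symm
    have hne : ¬ (3 : ℤ) ∣ ((Fintype.card F : ℤ) ^ 2 - 1) *
        ((Fintype.card F : ℤ) ^ 2 - Fintype.card F + 1) := by
      obtain ⟨u, hu⟩ := hq3
      rw [hu]
      push_cast
      rintro ⟨w, hw⟩
      have : (3 : ℤ) ∣ 1 := ⟨(3 * (u : ℤ) ^ 2) * ((3 * u) ^ 2 - 3 * u + 1) - (3 * (u : ℤ) ^ 2 - u) - w, by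
        linear_combination -hw⟩
      omega
    refine eq_zero_of_defect_zero C.S.c4.2 Nat.prime_three (n := (2 * C.n + 1) * 3) ?_ ?_ ?_ ?_
    · rw [pow_mul, ← C.card_eq]
      refine Int.natCast_dvd_natCast.1 ?_
      rw [C.card_G]
      push_cast
      exact (dvd_mul_right _ _).mul_right _
    · intro h
      apply hne
      have h' := Int.natCast_dvd_natCast.2 h
      rw [C.card_G, mul_assoc] at h'
      rw [pow_succ, pow_mul, ← C.card_eq] at h'
      push_cast at h'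
      exact Int.dvd_of_mul_dvd_mul_left (by positivity) h'
    · rw [hd, pow_mul, ← C.card_eq]
    · rw [hc.orderOf_mul_eq_mul_orderOf_of_coprime (by
        rw [C.Φ.m_ord]; exact (Nat.prime_three.coprime_iff_not_dvd).2 h3), C.Φ.m_ord]
      exact dvd_mul_right _ _
  rw [inv_mul_cancel_left, h0, zero_sub, C.c4_K ⟨y, hy⟩ fun e => hy1 (congrArg Subtype.val e)] at hsmall
  refine not_small_one (M := M) ?_
  rw [show (1 : ℂ) = -(C.D.R.sg C.S.c4 : ℂ) * -(C.D.R.sg C.S.c4 : ℂ) by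
    rw [neg_mul_neg]; exact (C.D.sg_c _).symm]
  exact hsmall.mem_mul ((place M).neg_mem _ (intCast_mem_place _))

/-- No nontrivial character of `K` is fixed. -/
theorem char_moved {θ : C.Φ.K →* ℂˣ} (hθ : θ ≠ 1) : ∀ p, θ.comp (C.Φ.act p) = θ → p = (0, false) := by
  have hmove : θ.comp (C.Φ.cj 1) ≠ θ := by
    intro e
    have hinj : Function.Injective fun y : C.Φ.K => C.Φ.cj 1 y * y⁻¹ := by
      intro a b h
      haveI := C.Φ.cyclic_K
      letI : CommGroup C.Φ.K := IsCyclic.commGroup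
      have h1 : C.Φ.cj 1 (a * b⁻¹) = a * b⁻¹ := by
        rw [map_mul, map_inv, ← div_eq_mul_inv, ← div_eq_mul_inv]
        simp only [← div_eq_mul_inv] at h
        rw [div_eq_div_iff_div_eq_div]
        exact h
      have h2 : Commute C.Φ.m ((a * b⁻¹ : C.Φ.K) : G) := by
        have h' := congrArg Subtype.val h1
        rw [Frame.cj_coe, pow_one] at h'
        exact mul_inv_eq_iff_eq_mul.1 h'
      have := C.fix_trivial (a * b⁻¹).2 h2
      exact mul_inv_eq_one.1 (Subtype.ext this)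
    refine hθ (MonoidHom.ext fun z => ?_)
    obtain ⟨y, rfl⟩ := (Finite.injective_iff_surjective.1 hinj) z
    rw [map_mul, map_inv, ← MonoidHom.comp_apply, e, mul_inv_cancel, MonoidHom.one_apply]
  rintro ⟨i, b⟩ h
  cases b
  · have h' : θ.comp (C.Φ.cj i) = θ := (MonoidHom.ext fun y => rfl).trans h
    fin_cases i
    · rfl
    · exact absurd h' hmove
    · exact absurd ((C.Φ.comp_cj_iff θ).1 h') hmove
  · exfalso
    refine C.Φ.comp_cj_ne_inv hθ i (MonoidHom.ext fun y => ?_)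
    have h' := DFunLike.congr_fun h y⁻¹
    simp only [Frame.act, Frame.ivh, MonoidHom.comp_apply, MonoidHom.coe_mk, OneHom.coe_mk, if_true, inv_inv] at h'
    rw [MonoidHom.comp_apply, h', map_inv]
    rfl

/-- The products of the four functions at every character. -/
theorem inner_four {θ : C.D.Tb.K →* ℂˣ} (hθ : θ ≠ 1) {i j : Fin 4} (hi : i ≠ 0) (hj : j ≠ 0) (hij : i ≠ j) :
    ∑ χ : IrrCharacter G, C.D.TF.a i θ χ * C.D.TF.a j θ χ = 2 := by
  have htr : θ.comp C.e.symm.toMonoidHom ≠ 1 := fun h => hθ (MonoidHom.ext fun y => by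
    simpa using DFunLike.congr_fun h (C.e y))
  have h := C.Φ.sum_moved C.moved i j htr (C.char_moved htr)
  rw [table_zero, if_neg hij, ← Int.cast_sum, table_total i j hi hj] at h
  simp only [C.mlt_tr]
  exact_mod_cast h.trans (by norm_num : _ = ((2 : ℤ) : ℂ))

end RCtx

end Cfsg.Lib.Ree.Real
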